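import Cfsg.Agent.Lib.BlockSize.Bound

/-!
# Blocks with abelian defect groups of rank at most three

`k(B) ≤ |D|` when `D` is generated by two elements and `k(B) ^ 3 ≤ |D| ^ 5` when by three.
-/

set_option autoImplicit false
set_option linter.style.haveILetI false

namespace Cfsg.Agent.Lib.BlockSize.Abelian

open Cfsg.Agent.Lib.BrauerPairs.Center Cfsg.Agent.Lib.BrauerPairs.Pairs
open Cfsg.Agent.Lib.BrauerPairs.Maximal Cfsg.Agent.Lib.BrauerPairs.Bridge
open Cfsg.Agent.Lib.CyclicBlocks.Local Cfsg.Agent.Lib.CyclicBlocks.Main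
open Cfsg.Agent.Lib.Blocks Cfsg.Agent.Lib.Blocks.Contrib
open Cfsg.Agent.Lib.BlockSize.Quotient Cfsg.Agent.Lib.BlockSize.Bound

universe u

attribute [local instance] Ideal.Quotient.field

variable {p : ℕ} [Fact p.Prime] {M : Ideal Cfsg.AlgInt} [M.IsMaximal] [CharP (Res M) p]

/-- A block with cyclic defect group has the structure of a cyclic block. -/
theorem struct_of_cyclic (hM : Cfsg.IsPModular p M) (hl : RankLower.{u} p M) {Q : Type u}
    [Group Q] [Finite Q] {B : Set (Cfsg.IrrCharacter Q)} (hB : Cfsg.IsPBlock M B)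
    {D : Subgroup Q} (hD : Cfsg.IsDefectGroup p M B D) (hcy : IsCyclic D) (h1 : D ≠ ⊥) :
    ∃ e X Y δ δ₀, CyclicStruct p B (Nat.card D) e X Y δ δ₀ := by
  classical
  have hD' := (isDefectGroup_iff hB D).mp hD
  obtain ⟨c, hc⟩ := exists_pairOf_isDef hD'
  have htop : Top p (⟨D, c⟩ : Idx (Res M) Q) := top_of_isDef hc hD'
  obtain ⟨z, hz⟩ := exists_cyc htop hc hcy h1
  obtain ⟨X, Y, δ, δ₀, hs⟩ := exists_cyclicStruct hM hz (hl Q _ _ _ _ hz)
  rw [toSet_blk] at hs
  exact ⟨_, X, Y, δ, δ₀, hs⟩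

omit [CharP (Res M) p] in
/-- The data at an element `z` of an abelian defect group. -/
theorem setup (hM : Cfsg.IsPModular p M) {G : Type u} [Group G] [Fintype G]
    {B : Set (Cfsg.IrrCharacter G)} (hB : Cfsg.IsPBlock M B) {D : Subgroup G}
    (hD : Cfsg.IsDefectGroup p M B D) (hab : IsMulCommutative D) {z : G} (hz : z ∈ D) :
    ∃ (H : Subgroup G) (x : H) (N : Subgroup H) (_ : N.Normal) (b : Set (Cfsg.IrrCharacter H))
      (a : ℕ), (x : G) = z ∧ SectionMatrix.Pelt p x ∧ N ≤ Subgroup.center H ∧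
      N = Subgroup.zpowers x ∧ Nat.card N = p ^ a ∧ orderOf z = p ^ a ∧
      Cfsg.IsInducedBlock M H b B ∧ Cfsg.blockDefect p b = Cfsg.blockDefect p B ∧
      Cfsg.IsPBlock M (bar N b) ∧
      Cfsg.blockDefect p (bar N b) + a = Cfsg.blockDefect p B ∧
      D ≤ H ∧ Cfsg.IsDefectGroup p M (bar N b) ((D.subgroupOf H).map (QuotientGroup.mk' N)) := by
  classical
  haveI := hab
  have hcomm : ∀ y ∈ D, y * z = z * y := fun y hy =>
    congrArg Subtype.val (mul_comm' (⟨y, hy⟩ : D) ⟨z, hz⟩)
  obtain ⟨b, hind, hdef, hbD⟩ := Major.exists_major_at hM hB hD hz hcomm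
  let H : Subgroup G := Subgroup.centralizer (Subgroup.zpowers z : Set G)
  have hmem : ∀ y ∈ D, y ∈ H := fun y hy => Subgroup.mem_centralizer_iff.mpr fun v hv => by
    obtain ⟨i, rfl⟩ := Subgroup.mem_zpowers_iff.mp hv
    exact ((show Commute z y from (hcomm y hy).symm).zpow_left i).eq
  let x : H := ⟨z, hmem z hz⟩
  obtain ⟨a, ha⟩ := IsPGroup.iff_orderOf.mp (Blocks.isPGroup_isDefectGroup hD) ⟨z, hz⟩
  rw [← Subgroup.orderOf_coe] at ha
  change orderOf z = p ^ a at ha
  have hx : SectionMatrix.Pelt p x := ⟨⟨a, ha⟩, rfl⟩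
  have hc : Subgroup.zpowers x ≤ Subgroup.center H := Subgroup.zpowers_le.mpr
    (Subgroup.mem_center_iff.mpr fun c => ((hx.commute c).eq).symm)
  haveI hnor : (Subgroup.zpowers x).Normal := ⟨fun n hn g => by
    rw [Subgroup.mem_center_iff.mp (hc hn) g, mul_inv_cancel_right]; exact hn⟩
  have hN : Nat.card (Subgroup.zpowers x) = p ^ a := by
    rw [Nat.card_zpowers, ← Subgroup.orderOf_coe]
    exact ha
  have hb := hind.1
  obtain ⟨hbar, hdefs⟩ := isPBlock_bar hM hb hc (IsPGroup.of_card hN)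
  exact ⟨H, x, Subgroup.zpowers x, hnor, b, a, rfl, hx, hc, rfl, hN, ha, hind, hdef, hbar,
    (blockDefect_bar_pow hM hb hc hN).trans hdef, hmem, (hdefs _).mpr ⟨_, hbD, rfl⟩⟩

/-- The image of an abelian `D` generated by `s` and `z` in the quotient by `z`. -/
theorem image_le_closure {G : Type u} [Group G] {H : Subgroup G} {D : Subgroup G} (hDH : D ≤ H)
    {x : H} {N : Subgroup H} [N.Normal] (hx : x ∈ N) {s : Set H}
    (hgen : D ≤ (Subgroup.closure (insert x s)).map H.subtype) :
    (D.subgroupOf H).map (QuotientGroup.mk' N) ≤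
      Subgroup.closure (QuotientGroup.mk' N '' s) := by
  have h1 : D.subgroupOf H ≤ Subgroup.closure (insert x s) := fun y hy => by
    obtain ⟨w, hw, hwy⟩ := hgen (Subgroup.mem_subgroupOf.mp hy)
    rwa [← H.subtype_injective hwy]
  refine (Subgroup.map_mono h1).trans ?_
  rw [MonoidHom.map_closure, Subgroup.closure_le]
  rintro _ ⟨y, rfl | hy, rfl⟩
  · rw [show (QuotientGroup.mk' N) y = 1 from (QuotientGroup.eq_one_iff y).mpr hx]
    exact one_mem _
  · exact Subgroup.subset_closure ⟨y, hy, rfl⟩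

/-- **Two generators**: `k(B) ≤ |D|`. -/
theorem two_gen (hM : Cfsg.IsPModular p M) (hl : RankLower.{u} p M) {G : Type u} [Group G]
    [Finite G] {B : Set (Cfsg.IrrCharacter G)} (hB : Cfsg.IsPBlock M B) {D : Subgroup G}
    (hD : Cfsg.IsDefectGroup p M B D) (hab : IsMulCommutative D) {u v : G} (hu : u ∈ D)
    (hv : v ∈ D) (hgen : D ≤ Subgroup.closure {v, u}) :
    Nat.card B ≤ p ^ Cfsg.blockDefect p B := by
  classical
  have hp : p.Prime := Fact.out
  letI := Fintype.ofFinite G
  obtain ⟨H, x, N, _, b, a, hxv, hx, hc, hNx, hN, -, hind, hdef, hbar, hdb, hDH, hbarD⟩ :=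
    setup hM hB hD hab hv
  letI := Fintype.ofFinite H
  set D' := (D.subgroupOf H).map (QuotientGroup.mk' N) with hD'def
  have hcard := Blocks.card_isDefectGroup hM hbar hbarD
  let w : H := ⟨u, hDH hu⟩
  have hle : D' ≤ Subgroup.zpowers (QuotientGroup.mk' N w) := by
    have h := image_le_closure (N := N) hDH (hNx ▸ Subgroup.mem_zpowers x) (s := {w}) (by
      refine hgen.trans ((Subgroup.closure_le _).mpr ?_)
      rintro y (rfl | rfl)
      · exact ⟨x, Subgroup.subset_closure (Set.mem_insert _ _), hxv⟩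
      · exact ⟨w, Subgroup.subset_closure (Set.mem_insert_of_mem _ rfl), rfl⟩)
    rwa [Set.image_singleton, ← Subgroup.zpowers_eq_closure] at h
  rcases eq_or_ne D' ⊥ with h0 | h0
  · have hd0 : Cfsg.blockDefect p (bar N b) = 0 := by
      rw [h0, Subgroup.card_bot] at hcard
      exact Nat.pow_right_injective hp.two_le (hcard.symm.trans (pow_zero p).symm)
    have h1 : Cfsg.blockRank p b ≤ 1 := (blockRank_le_card_bar hM hind.1 hc
      (IsPGroup.of_card hN)).trans ((card_eq_one_iff hM hbar).mpr hd0).le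
    have h2 := MajorSection.card_le hM hx hind hdef
    rw [hdef] at h2
    exact h2.trans ((Nat.mul_le_mul_left _ h1).trans (Nat.mul_one _).le)
  · have hcy : IsCyclic D' := Subgroup.isCyclic_of_le hle
    obtain ⟨e, X, Y, δ, δ₀, hs⟩ := struct_of_cyclic hM hl hbar hbarD hcy h0
    rw [hcard] at hs
    have hf : 1 ≤ Cfsg.blockDefect p (bar N b) := by
      refine Nat.pos_of_ne_zero fun hd0 => h0 (Subgroup.card_eq_one.mp ?_)
      rw [hcard, hd0, pow_zero]
    have h := Two.card_le (a := a) hM hx hind hdef hf (by omega) hc hN hs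
    rwa [show a + Cfsg.blockDefect p (bar N b) = Cfsg.blockDefect p B by omega] at h

/-- Two elements generate an abelian subgroup of order at most the product of their orders. -/
theorem card_le_mul {Q : Type u} [Group Q] [Finite Q] {D : Subgroup Q} (hab : IsMulCommutative D)
    {u v : Q} (hu : u ∈ D) (hv : v ∈ D) (hgen : D ≤ Subgroup.closure {v, u}) :
    Nat.card D ≤ orderOf v * orderOf u := by
  classical
  haveI := hab
  haveI := Fintype.ofFinite Q
  have hcomm : Commute v u := congrArg Subtype.val (mul_comm' (⟨v, hv⟩ : D) ⟨u, hu⟩)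
  let f : Subgroup.zpowers v × Subgroup.zpowers u →* Q :=
    (Subgroup.zpowers v).subtype.noncommCoprod (Subgroup.zpowers u).subtype (by
      rintro ⟨_, i, rfl⟩ ⟨_, j, rfl⟩
      exact hcomm.zpow_zpow i j)
  have hle : D ≤ f.range := hgen.trans ((Subgroup.closure_le _).mpr (by
    rintro y (rfl | rfl)
    · exact ⟨(⟨y, Subgroup.mem_zpowers y⟩, 1), by simp [f]⟩
    · exact ⟨(1, ⟨y, Subgroup.mem_zpowers y⟩), by simp [f]⟩))
  calc Nat.card D ≤ Nat.card f.range := Nat.le_of_dvd Nat.card_pos (Subgroup.card_dvd_of_le hle)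
    _ ≤ Nat.card (Subgroup.zpowers v × Subgroup.zpowers u) :=
        Nat.card_le_card_of_surjective f.rangeRestrict f.rangeRestrict_surjective
    _ = orderOf v * orderOf u := by rw [Nat.card_prod, Nat.card_zpowers, Nat.card_zpowers]

/-- **Three generators**, the first of largest order: `k(B) ^ 3 ≤ |D| ^ 5`. -/
theorem three_gen (hM : Cfsg.IsPModular p M) (hl : RankLower.{u} p M) {G : Type u} [Group G]
    [Finite G] {B : Set (Cfsg.IrrCharacter G)} (hB : Cfsg.IsPBlock M B) {D : Subgroup G}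
    (hD : Cfsg.IsDefectGroup p M B D) (hab : IsMulCommutative D) {z u v : G} (hz : z ∈ D)
    (hu : u ∈ D) (hv : v ∈ D) (huz : orderOf u ≤ orderOf z) (hvz : orderOf v ≤ orderOf z)
    (hgen : D ≤ Subgroup.closure {z, v, u}) :
    Nat.card B ^ 3 ≤ p ^ (5 * Cfsg.blockDefect p B) := by
  classical
  have hp : p.Prime := Fact.out
  letI := Fintype.ofFinite G
  obtain ⟨H, x, N, _, b, a, hxz, hx, hc, hNx, hN, ha, hind, hdef, hbar, hdb, hDH, hbarD⟩ :=
    setup hM hB hD hab hz
  letI := Fintype.ofFinite H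
  set D' := (D.subgroupOf H).map (QuotientGroup.mk' N) with hD'def
  let u' : H := ⟨u, hDH hu⟩
  let v' : H := ⟨v, hDH hv⟩
  have hab' : IsMulCommutative D' := by
    refine ⟨⟨fun s t => Subtype.ext ?_⟩⟩
    obtain ⟨s', hs', hs''⟩ := s.2
    obtain ⟨t', ht', ht''⟩ := t.2
    haveI := hab
    have h0 := mul_comm' (⟨(s' : G), Subgroup.mem_subgroupOf.mp hs'⟩ : D)
      ⟨(t' : G), Subgroup.mem_subgroupOf.mp ht'⟩
    have h1 : s' * t' = t' * s' :=
      Subtype.ext (show (s' : G) * (t' : G) = (t' : G) * (s' : G) from congrArg Subtype.val h0)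
    rw [Subgroup.coe_mul, Subgroup.coe_mul, ← hs'', ← ht'', ← map_mul, h1, map_mul]
  have hmem : ∀ w : H, (w : G) ∈ D → QuotientGroup.mk' N w ∈ D' := fun w hw =>
    ⟨w, Subgroup.mem_subgroupOf.mpr hw, rfl⟩
  have hgen' : D' ≤ Subgroup.closure {QuotientGroup.mk' N v', QuotientGroup.mk' N u'} := by
    have h := image_le_closure (N := N) hDH (hNx ▸ Subgroup.mem_zpowers x) (s := {v', u'}) (by
      refine hgen.trans ((Subgroup.closure_le _).mpr ?_)
      rintro y (rfl | rfl | rfl)
      · exact ⟨x, Subgroup.subset_closure (Set.mem_insert _ _), hxz⟩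
      · exact ⟨v', Subgroup.subset_closure (Set.mem_insert_of_mem _ (Set.mem_insert _ _)), rfl⟩
      · exact ⟨u', Subgroup.subset_closure
          (Set.mem_insert_of_mem _ (Set.mem_insert_of_mem _ rfl)), rfl⟩)
    rwa [Set.image_pair] at h
  have hk := two_gen hM hl hbar hbarD hab' (hmem u' hu) (hmem v' hv) hgen'
  have hd' : Cfsg.blockDefect p (bar N b) ≤ 2 * a := by
    refine (Nat.pow_le_pow_iff_right hp.one_lt).mp ?_
    rw [← Blocks.card_isDefectGroup hM hbar hbarD]
    refine (card_le_mul hab' (hmem u' hu) (hmem v' hv) hgen').trans ?_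
    rw [two_mul, pow_add]
    refine Nat.mul_le_mul ?_ ?_
    · refine (Nat.le_of_dvd (orderOf_pos _) (orderOf_map_dvd _ v')).trans ?_
      rw [← Subgroup.orderOf_coe, ← ha]
      exact hvz
    · refine (Nat.le_of_dvd (orderOf_pos _) (orderOf_map_dvd _ u')).trans ?_
      rw [← Subgroup.orderOf_coe, ← ha]
      exact huz
  have h2 := MajorSection.card_le hM hx hind hdef
  rw [hdef] at h2
  have h3 : Nat.card B ≤ p ^ (Cfsg.blockDefect p B + Cfsg.blockDefect p (bar N b)) := by
    rw [pow_add]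
    exact h2.trans (Nat.mul_le_mul_left _
      ((blockRank_le_card_bar hM hind.1 hc (IsPGroup.of_card hN)).trans hk))
  calc Nat.card B ^ 3 ≤ (p ^ (Cfsg.blockDefect p B + Cfsg.blockDefect p (bar N b))) ^ 3 :=
        Nat.pow_le_pow_left h3 3
    _ ≤ p ^ (5 * Cfsg.blockDefect p B) := by
        rw [← pow_mul]
        exact Nat.pow_le_pow_right hp.pos (by omega)

/-- The bounds by the rank of the defect group. -/
theorem bounds (hM : Cfsg.IsPModular p M) (hl : RankLower.{u} p M) {G : Type u} [Group G]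
    [Finite G] {B : Set (Cfsg.IrrCharacter G)} (hB : Cfsg.IsPBlock M B) {D : Subgroup G}
    (hD : Cfsg.IsDefectGroup p M B D) (hab : IsMulCommutative D) {d : ℕ}
    (hDd : Nat.card D = p ^ d) :
    (Group.rank D = 2 → Nat.card B ≤ p ^ d) ∧
      (Group.rank D = 3 → Nat.card B ^ 3 ≤ p ^ (5 * d)) := by
  classical
  have hp : p.Prime := Fact.out
  have hd : Cfsg.blockDefect p B = d := Nat.pow_right_injective hp.two_le
    ((Blocks.card_isDefectGroup hM hB hD).symm.trans hDd)
  subst hd
  have key : ∀ (S : Finset D), Subgroup.closure (S : Set D) = ⊤ →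
      D ≤ Subgroup.closure (Subtype.val '' (S : Set D)) := fun S hS y hy => by
    have h1 : (⟨y, hy⟩ : D) ∈ Subgroup.closure (S : Set D) := hS ▸ Subgroup.mem_top _
    have h2 := Subgroup.mem_map_of_mem D.subtype h1
    rwa [MonoidHom.map_closure] at h2
  refine ⟨fun h => ?_, fun h => ?_⟩ <;> obtain ⟨S, hScard, hS⟩ := Group.rank_spec D
  · rw [h] at hScard
    obtain ⟨s, t, -, rfl⟩ := Finset.card_eq_two.mp hScard
    refine two_gen hM hl hB hD hab t.2 s.2 ((key _ hS).trans (Subgroup.closure_mono ?_))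
    rw [Finset.coe_insert, Finset.coe_singleton, Set.image_pair]
  · rw [h] at hScard
    obtain ⟨r, s, t, -, -, -, rfl⟩ := Finset.card_eq_three.mp hScard
    have hgen : D ≤ Subgroup.closure ({(r : G), (s : G), (t : G)} : Set G) := by
      refine (key _ hS).trans (Subgroup.closure_mono ?_)
      simp only [Finset.coe_insert, Finset.coe_singleton, Set.image_insert_eq, Set.image_singleton]
      exact subset_rfl
    rcases le_total (orderOf (s : G)) (orderOf (r : G)) with h1 | h1
    · rcases le_total (orderOf (t : G)) (orderOf (r : G)) with h2 | h2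
      · exact three_gen hM hl hB hD hab r.2 t.2 s.2 h2 h1 hgen
      · refine three_gen hM hl hB hD hab t.2 r.2 s.2 h2 (h1.trans h2)
          (hgen.trans (Subgroup.closure_mono fun y hy => ?_))
        simp only [Set.mem_insert_iff, Set.mem_singleton_iff] at hy ⊢
        tauto
    · rcases le_total (orderOf (t : G)) (orderOf (s : G)) with h2 | h2
      · refine three_gen hM hl hB hD hab s.2 t.2 r.2 h2 h1
          (hgen.trans (Subgroup.closure_mono fun y hy => ?_))
        simp only [Set.mem_insert_iff, Set.mem_singleton_iff] at hy ⊢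
        tauto
      · refine three_gen hM hl hB hD hab t.2 r.2 s.2 (h1.trans h2) h2
          (hgen.trans (Subgroup.closure_mono fun y hy => ?_))
        simp only [Set.mem_insert_iff, Set.mem_singleton_iff] at hy ⊢
        tauto

end Cfsg.Agent.Lib.BlockSize.Abelian
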