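import Cfsg.Agent.S4726
import Cfsg.Agent.Lib.BrauerPairs.Local
import Cfsg.Agent.Lib.BrauerPairs.InducedPair
import Cfsg.Agent.Lib.Blocks.SectionMatrix

/-!
# A major subsection at an element of order p

A block of positive defect has an element `z` of order `p` and a block of its centralizer of the
same defect inducing it.
-/

set_option autoImplicit false
set_option linter.style.haveILetI false

namespace Cfsg.Agent.Lib.BlockSize.Major

open Cfsg.Agent.Lib.BrauerPairs.Center Cfsg.Agent.Lib.BrauerPairs.Trunc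
open Cfsg.Agent.Lib.BrauerPairs.Conj Cfsg.Agent.Lib.BrauerPairs.Pairs
open Cfsg.Agent.Lib.BrauerPairs.Maximal Cfsg.Agent.Lib.BrauerPairs.Bridge
open Cfsg.Agent.Lib.BrauerPairs.Local
open Cfsg.Agent.Lib.BrauerPairs

universe u

attribute [local instance] Ideal.Quotient.field

/-- A major subsection at a central element of a defect group, with the same defect group. -/
theorem exists_major_at {G : Type u} [Group G] [Finite G] {p : ℕ} [Fact p.Prime]
    {M : Ideal Cfsg.AlgInt} [M.IsMaximal] (hM : Cfsg.IsPModular p M)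
    {B : Set (Cfsg.IrrCharacter G)} (hB : Cfsg.IsPBlock M B) {D : Subgroup G}
    (hD : Cfsg.IsDefectGroup p M B D) {z : G} (hzD' : z ∈ D) (hcomm : ∀ y ∈ D, y * z = z * y) :
    ∃ b : Set (Cfsg.IrrCharacter (Subgroup.centralizer (Subgroup.zpowers z : Set G))),
      Cfsg.IsInducedBlock M (Subgroup.centralizer (Subgroup.zpowers z : Set G)) b B ∧
      Cfsg.blockDefect p b = Cfsg.blockDefect p B ∧
      Cfsg.IsDefectGroup p M b
        (D.subgroupOf (Subgroup.centralizer (Subgroup.zpowers z : Set G))) := by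
  classical
  haveI := charP_res hM
  have hp : p.Prime := Fact.out
  have hDcard := Blocks.card_isDefectGroup hM hB hD
  have hD' := (isDefectGroup_iff hB D).mp hD
  have hDp : IsPGroup p D := hD'.isPGroup
  obtain ⟨ν, hν⟩ := exists_pairOf_isDef hD'
  have hzD : Subgroup.zpowers z ≤ D := Subgroup.zpowers_le.mpr hzD'
  set H := Subgroup.centralizer (Subgroup.zpowers z : Set G) with hH
  have hDH : D ≤ H := fun y hy => Subgroup.mem_centralizer_iff.mpr fun v hv => by
    obtain ⟨i, rfl⟩ := Subgroup.mem_zpowers_iff.mp hv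
    exact ((show Commute z y from (hcomm y hy).symm).zpow_left i).eq
  obtain ⟨ω, hω⟩ := exists_le_of_le hDp ν _ hzD
  have hzp : IsPGroup p (Subgroup.zpowers z) := hDp.to_le hzD
  have hpairz : PairOf p (blk hB) (⟨Subgroup.zpowers z, ω⟩ : Idx (Res M) G) :=
    (pairOf_iff_of_le (b := (⟨D, ν⟩ : Idx (Res M) G)) hDp hω _).mpr hν
  have hb : Cfsg.IsPBlock M (toSet ω) := isPBlock_toSet ω
  have hind : Cfsg.IsInducedBlock M H (toSet ω) B := by
    refine (InducedPair.isInducedBlock_iff hzp hb hB).mpr ?_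
    rw [blk_toSet]
    exact hpairz
  refine ⟨toSet ω, hind, ?_⟩
  -- the defect
  have S := setup_centralizer (p := p) (a := (⟨Subgroup.zpowers z, ω⟩ : Idx (Res M) G)) hzp
  obtain ⟨D', hD'', hle⟩ := S.exists_isDef_ge (b := (⟨D, ν⟩ : Idx (Res M) G)) hDp hω
  have hD'g : Cfsg.IsDefectGroup p M (toSet ω) D' := by
    rw [isDefectGroup_iff hb, blk_toSet]
    exact hD''
  have hb' := Blocks.card_isDefectGroup hM hb hD'g
  rw [inf_eq_left.mpr hDH] at hle
  have hge : Cfsg.blockDefect p B ≤ Cfsg.blockDefect p (toSet ω) := by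
    have h1 := Nat.le_of_dvd Nat.card_pos (Subgroup.card_dvd_of_le hle)
    rw [Nat.card_congr (Subgroup.subgroupOfEquivOfLe hDH).toEquiv, hDcard, hb'] at h1
    exact (Nat.pow_le_pow_iff_right hp.one_lt).mp h1
  have hC : Subgroup.centralizer ((D'.map H.subtype : Subgroup G) : Set G) ≤ H := by
    refine Subgroup.centralizer_le fun v hv => ?_
    have hvD : v ∈ D := hzD hv
    exact ⟨⟨v, hDH hvD⟩, hle (Subgroup.mem_subgroupOf.mpr hvD), rfl⟩
  obtain ⟨⟨D₁, hD₁, -, -, hsub⟩, -⟩ :=
    (Cfsg.Agent.S4726.result p M hM H (toSet ω) hb D' hD'g hC).2 B hind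
  have hle' : Cfsg.blockDefect p (toSet ω) ≤ Cfsg.blockDefect p B := by
    have h1 := Nat.le_of_dvd Nat.card_pos (Subgroup.card_dvd_of_le hsub)
    rw [Subgroup.card_map_of_injective H.subtype_injective, hb',
      Blocks.card_isDefectGroup hM hB hD₁] at h1
    exact (Nat.pow_le_pow_iff_right hp.one_lt).mp h1
  refine ⟨le_antisymm hle' hge, ?_⟩
  have heq : D.subgroupOf H = D' := Subgroup.eq_of_le_of_card_ge hle <| by
    rw [Nat.card_congr (Subgroup.subgroupOfEquivOfLe hDH).toEquiv, hDcard, hb']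
    exact Nat.pow_le_pow_right hp.pos hle'
  exact heq ▸ hD'g


/-- A major subsection at an element of order `p`. -/
theorem exists_major {G : Type u} [Group G] [Finite G] {p : ℕ} [Fact p.Prime]
    {M : Ideal Cfsg.AlgInt} [M.IsMaximal] (hM : Cfsg.IsPModular p M)
    {B : Set (Cfsg.IrrCharacter G)} (hB : Cfsg.IsPBlock M B)
    (hd : 0 < Cfsg.blockDefect p B) :
    ∃ (z : G) (b : Set (Cfsg.IrrCharacter (Subgroup.centralizer (Subgroup.zpowers z : Set G)))),
      orderOf z = p ∧
      Cfsg.IsInducedBlock M (Subgroup.centralizer (Subgroup.zpowers z : Set G)) b B ∧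
      Cfsg.blockDefect p b = Cfsg.blockDefect p B := by
  classical
  haveI := charP_res hM
  have hp : p.Prime := Fact.out
  obtain ⟨D, hD⟩ := Blocks.exists_isDefectGroup (p := p) hB
  have hDcard := Blocks.card_isDefectGroup hM hB hD
  have hD' := (isDefectGroup_iff hB D).mp hD
  have hDp : IsPGroup p D := hD'.isPGroup
  -- an element of order `p` of the centre
  haveI : Nontrivial D := Finite.one_lt_card_iff_nontrivial.mp (by
    rw [hDcard]; exact Nat.one_lt_pow hd.ne' hp.one_lt)
  haveI : Nontrivial (Subgroup.center D) := hDp.center_nontrivial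
  obtain ⟨k, hk⟩ := (IsPGroup.iff_card (p := p)).mp (hDp.to_subgroup (Subgroup.center D))
  have hk0 : k ≠ 0 := fun h => by
    have h1 : 1 < Nat.card (Subgroup.center D) := Finite.one_lt_card
    rw [hk, h, pow_zero] at h1
    exact lt_irrefl 1 h1
  obtain ⟨z', hz'⟩ := exists_prime_orderOf_dvd_card' p (hk ▸ dvd_pow_self p hk0)
  set z : G := ((z' : D) : G) with hz
  have hzord : orderOf z = p := by rw [hz, Subgroup.orderOf_coe, Subgroup.orderOf_coe, hz']
  have hcomm : ∀ y ∈ D, y * z = z * y := fun y hy =>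
    congrArg Subtype.val (Subgroup.mem_center_iff.mp z'.2 ⟨y, hy⟩)
  obtain ⟨b, hind, hdef, -⟩ := exists_major_at hM hB hD (z := z) (z' : D).2 hcomm
  exact ⟨z, b, hzord, hind, hdef⟩

/-- The element with its centralizer, as used for sections. -/
theorem pelt {G : Type u} [Group G] {p : ℕ} {z : G} (hz : orderOf z = p)
    (x : Subgroup.centralizer (Subgroup.zpowers z : Set G)) (hx : (x : G) = z) :
    Blocks.SectionMatrix.Pelt p x :=
  ⟨⟨1, by rw [hx, hz, pow_one]⟩, by rw [hx]⟩

end Cfsg.Agent.Lib.BlockSize.Major
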