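import Cfsg.Agent.Lib.BlockSize.Two
import Cfsg.Agent.Lib.BlockSize.Major

/-!
# The bounds `k(B) ≤ p ^ d` for `d ≤ 2` and `k(B) ≤ p ^ (2 d - 2)` beyond

From the lower bound for the number of modular characters of a block with cyclic defect group.
-/

set_option autoImplicit false
set_option linter.style.haveILetI false

namespace Cfsg.Agent.Lib.BlockSize.Bound

open Cfsg.Agent.Lib.BrauerPairs.Center Cfsg.Agent.Lib.BrauerPairs.Pairs
open Cfsg.Agent.Lib.BrauerPairs.Maximal Cfsg.Agent.Lib.BrauerPairs.Bridge
open Cfsg.Agent.Lib.CyclicBlocks.Local Cfsg.Agent.Lib.CyclicBlocks.Main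
open Cfsg.Agent.Lib.Blocks Cfsg.Agent.Lib.Blocks.Contrib
open Cfsg.Agent.Lib.BlockSize.Quotient

universe u

attribute [local instance] Ideal.Quotient.field

variable {p : ℕ} [Fact p.Prime] {M : Ideal Cfsg.AlgInt} [M.IsMaximal] [CharP (Res M) p]

/-- The number of modular characters of a block with cyclic defect group is at least the inertial
index. -/
def RankLower (p : ℕ) [Fact p.Prime] (M : Ideal Cfsg.AlgInt) [M.IsMaximal] [CharP (Res M) p] :
    Prop :=
  ∀ (Q : Type u) [Group Q] [Finite Q] (ψ : Blk (Res M) Q) (P : Subgroup Q)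
    (c : Blk (Res M) (Subgroup.centralizer (P : Set Q))) (z : Q) (hc : Cyc p ψ P c z),
    eIdx hc ≤ Cfsg.blockRank p (toSet ψ)

/-- A block of defect one has the structure of a cyclic block. -/
theorem exists_struct (hM : Cfsg.IsPModular p M) (hl : RankLower.{u} p M) {Q : Type u} [Group Q]
    [Finite Q] {B : Set (Cfsg.IrrCharacter Q)} (hB : Cfsg.IsPBlock M B)
    (hd : Cfsg.blockDefect p B = 1) :
    ∃ e X Y δ δ₀, CyclicStruct p B p e X Y δ δ₀ := by
  classical
  have hp : p.Prime := Fact.out
  obtain ⟨D, hD⟩ := exists_isDefectGroup (p := p) hB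
  have hD' := (isDefectGroup_iff hB D).mp hD
  have hcard : Nat.card D = p := by rw [card_isDefectGroup hM hB hD, hd, pow_one]
  obtain ⟨c, hc⟩ := exists_pairOf_isDef hD'
  have htop : Top p (⟨D, c⟩ : Idx (Res M) Q) := top_of_isDef hc hD'
  obtain ⟨z, hz⟩ := exists_cyc htop hc (isCyclic_of_prime_card hcard) (fun h => by
    rw [h, Subgroup.card_bot] at hcard
    exact hp.ne_one hcard.symm)
  obtain ⟨X, Y, δ, δ₀, hs⟩ := exists_cyclicStruct hM hz (hl Q _ _ _ _ hz)
  rw [hcard, toSet_blk] at hs
  exact ⟨_, X, Y, δ, δ₀, hs⟩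

/-- The bounds. -/
theorem bounds (hM : Cfsg.IsPModular p M) (hl : RankLower.{u} p M) (d : ℕ) :
    ∀ (G : Type u) [Group G] [Finite G] (B : Set (Cfsg.IrrCharacter G)), Cfsg.IsPBlock M B →
      Cfsg.blockDefect p B = d →
      (d ≤ 2 → Nat.card B ≤ p ^ d) ∧ (3 ≤ d → Nat.card B ≤ p ^ (2 * d - 2)) := by
  induction d using Nat.strong_induction_on with
  | _ d ih =>
    intro G _ _ B hB hd
    classical
    have hp : p.Prime := Fact.out
    rcases Nat.eq_zero_or_pos d with h0 | hpos
    · subst h0
      exact ⟨fun _ => by rw [(card_eq_one_iff hM hB).mpr hd, pow_zero], fun h => by omega⟩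
    letI := Fintype.ofFinite G
    obtain ⟨z, b, hz, hind, hdb⟩ := Major.exists_major hM hB (hd ▸ hpos)
    letI := Fintype.ofFinite (Subgroup.centralizer (Subgroup.zpowers z : Set G))
    let x : Subgroup.centralizer (Subgroup.zpowers z : Set G) := ⟨z, Subgroup.mem_centralizer_iff.mpr fun v hv => by
      obtain ⟨i, rfl⟩ := Subgroup.mem_zpowers_iff.mp hv
      exact ((Commute.refl z).zpow_left i).eq⟩
    have hx : SectionMatrix.Pelt p x := Major.pelt hz x rfl
    let N : Subgroup (Subgroup.centralizer (Subgroup.zpowers z : Set G)) := Subgroup.zpowers x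
    have hc : N ≤ Subgroup.center _ := Subgroup.zpowers_le.mpr
      (Subgroup.mem_center_iff.mpr fun c => ((hx.commute c).eq).symm)
    haveI : N.Normal := ⟨fun n hn g => by
      rw [Subgroup.mem_center_iff.mp (hc hn) g, mul_inv_cancel_right]; exact hn⟩
    have hN : Nat.card N = p := by
      show Nat.card (Subgroup.zpowers x) = p
      rw [Nat.card_zpowers, ← Subgroup.orderOf_coe]
      exact hz
    have hNp := isPGroup_of_card hN
    have hb := hind.1
    have hbar := (isPBlock_bar hM hb hc hNp).1
    have hdbar : Cfsg.blockDefect p (bar N b) = d - 1 := by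
      have := blockDefect_bar hM hb hc hN
      omega
    have hbd : Cfsg.blockDefect p b = d := hdb.trans hd
    have hrank := blockRank_le_card_bar hM hb hc hNp
    have hih := ih (d - 1) (by omega) (_ ⧸ N) (bar N b) hbar hdbar
    refine ⟨fun h2 => ?_, fun h3 => ?_⟩
    · rcases Nat.lt_or_ge d 2 with h1 | h1
      · have hd1 : d = 1 := by omega
        subst hd1
        have hl1 : Nat.card (bar N b) ≤ 1 := by simpa using hih.1 (by omega)
        have := MajorSection.card_le hM hx hind hdb
        rw [hbd] at this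
        exact this.trans ((Nat.mul_le_mul_left _ (hrank.trans hl1)).trans (Nat.mul_one _).le)
      · have hd2 : d = 2 := by omega
        subst hd2
        obtain ⟨e, X, Y, δ, δ₀, hs⟩ := exists_struct hM hl hbar hdbar
        have hs' : CyclicStruct p (bar N b) (p ^ 1) e X Y δ δ₀ := by rwa [pow_one]
        exact Two.card_le (a := 1) (f := 1) hM hx hind hdb le_rfl hbd hc
          (hN.trans (pow_one p).symm) hs'
    · by_cases hpos' : ∃ χ ∈ B, 0 < Cfsg.blockHeight p B (χ : G → ℂ)
      · obtain ⟨χ, hχ, hχh⟩ := hpos'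
        have := two_mul_card_le hM hB hχ hχh
        rw [hd] at this
        omega
      · push Not at hpos'
        have hh : ∀ χ ∈ B, vdeg p χ = minVdeg p B := fun χ hχ =>
          (blockHeight_eq_zero_iff hχ).mp (Nat.le_zero.mp (hpos' χ hχ))
        have hsq := SectionMatrix.card_sq_le hM hx hind hh
        rw [hbd] at hsq
        have hl' : Cfsg.blockRank p b ≤ p ^ (2 * d - 4) := by
          refine hrank.trans ?_
          rcases Nat.lt_or_ge (d - 1) 3 with h | h
          · have := hih.1 (by omega)
            rwa [show 2 * d - 4 = d - 1 by omega]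
          · have := hih.2 h
            rwa [show 2 * d - 4 = 2 * (d - 1) - 2 by omega]
        have h4 : Nat.card B ^ 2 ≤ (p ^ (2 * d - 2)) ^ 2 := by
          refine hsq.trans ((Nat.mul_le_mul_left _ hl').trans ?_)
          rw [← pow_add, ← pow_mul]
          exact Nat.pow_le_pow_right hp.pos (by omega)
        exact le_of_pow_le_pow_left₀ two_ne_zero (Nat.zero_le _) h4

end Cfsg.Agent.Lib.BlockSize.Bound
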