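import Cfsg.Agent.Lib.BlockSize.Bound
import Cfsg.Agent.Lib.Blocks.FirstMain
import Cfsg.Agent.Lib.Blocks.Vanishing
import Cfsg.Agent.Lib.BrauerPairs.LocalAbelian

/-!
# Characters of degree prime to p when p divides the order exactly once

They are the characters of the blocks of defect one, counted through Brauer's first main theorem.
-/

set_option autoImplicit false
set_option linter.style.haveILetI false

namespace Cfsg.Agent.Lib.BlockSize.CountOne

open Cfsg.Agent.Lib.BrauerPairs.Center Cfsg.Agent.Lib.BrauerPairs.Pairs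
open Cfsg.Agent.Lib.BrauerPairs.Maximal Cfsg.Agent.Lib.BrauerPairs.Bridge
open Cfsg.Agent.Lib.BrauerPairs.Embed Cfsg.Agent.Lib.BrauerPairs.Local
open Cfsg.Agent.Lib.CyclicBlocks.Local Cfsg.Agent.Lib.CyclicBlocks.Main
open Cfsg.Agent.Lib.Blocks Cfsg.Agent.Lib.Blocks.Contrib
open Cfsg.Agent.Lib.BlockSize.Bound

universe u

attribute [local instance] Ideal.Quotient.field

variable {p : ℕ} [Fact p.Prime] {M : Ideal Cfsg.AlgInt} [M.IsMaximal] [CharP (Res M) p]
  {G : Type u} [Group G] [Finite G]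

local notation "N[" D "]" => Subgroup.normalizer ((D : Subgroup G) : Set G)
local notation "C[" D "]" => Subgroup.centralizer ((D : Subgroup G) : Set G)

/-- The number of characters of a block with a maximal pair at a group of order `p`. -/
theorem card_of_pair (hM : Cfsg.IsPModular p M) (hl : RankLower.{u} p M) {ψ : Blk (Res M) G}
    {P : Subgroup G} {c : Blk (Res M) C[P]} (htop : Top p (⟨P, c⟩ : Idx (Res M) G))
    (hψ : PairOf p ψ (⟨P, c⟩ : Idx (Res M) G)) (hP : Nat.card P = p) :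
    ∃ r : ℕ, Nat.card (toSet ψ) =
        C[P].relIndex (stab (⟨P, c⟩ : Idx (Res M) G)) + r ∧
      C[P].relIndex (stab (⟨P, c⟩ : Idx (Res M) G)) * r + 1 = p := by
  obtain ⟨z, hz⟩ := exists_cyc htop hψ (isCyclic_of_prime_card hP) (fun h => by
    rw [h, Subgroup.card_bot] at hP
    exact (Fact.out : p.Prime).ne_one hP.symm)
  obtain ⟨X, Y, δ, δ₀, hs⟩ := exists_cyclicStruct hM hz (hl G _ _ _ _ hz)
  obtain ⟨r, hr, hr'⟩ := hz.card_eq hM
  rw [hs.rank] at hr
  exact ⟨r, hr, hr'.trans hP⟩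

/-- Two ways of writing `e + r` with the same `e`. -/
theorem eq_of_mul_add {e r r' : ℕ} (h : e * r + 1 = p) (h' : e * r' + 1 = p) : r = r' := by
  rcases Nat.eq_zero_or_pos e with he | he
  · rw [he, zero_mul, zero_add] at h
    exact absurd h.symm (Fact.out : p.Prime).ne_one
  · exact Nat.eq_of_mul_eq_mul_left he (by omega)

omit [CharP (Res M) p] in
theorem not_dvd_iff (hM : Cfsg.IsPModular p M) (ha : (Nat.card G).factorization p = 1)
    {B : Set (Cfsg.IrrCharacter G)} (hB : Cfsg.IsPBlock M B) {χ : Cfsg.IrrCharacter G}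
    (hχ : χ ∈ B) : ¬ p ∣ Cfsg.charDegree (χ : G → ℂ) ↔ Cfsg.blockDefect p B = 1 := by
  have hp : p.Prime := Fact.out
  have hv : ¬ p ∣ Cfsg.charDegree (χ : G → ℂ) ↔ vdeg p χ = 0 := by
    rw [hp.dvd_iff_one_le_factorization (BlocksChars5.Basic.degree_pos χ).ne']
    show ¬ 1 ≤ vdeg p χ ↔ _
    omega
  rw [hv]
  have hmin := minVdeg_add_blockDefect (p := p) hB
  have hle : minVdeg p B ≤ vdeg p χ := minVdeg_le hχ
  constructor
  · intro h0; omega
  · intro h1
    have hh : Cfsg.blockHeight p B (χ : G → ℂ) = 0 := by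
      by_contra h0
      have := height_add_two_le hM hB hχ (Nat.pos_of_ne_zero h0)
      omega
    have := (blockHeight_eq_zero_iff hχ).mp hh
    omega

omit [CharP (Res M) p] in
theorem sylow_isDefectGroup (hM : Cfsg.IsPModular p M) (ha : (Nat.card G).factorization p = 1)
    (P : Sylow p G) {B : Set (Cfsg.IrrCharacter G)} (hB : Cfsg.IsPBlock M B)
    (hd : Cfsg.blockDefect p B = 1) : Cfsg.IsDefectGroup p M B (P : Subgroup G) := by
  obtain ⟨D, hD⟩ := exists_isDefectGroup (p := p) hB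
  obtain ⟨g, hg⟩ := MulAction.exists_smul_eq G (Sylow.ofCard D (by
    rw [card_isDefectGroup hM hB hD, hd, ha])) P
  rw [← hg, Sylow.coe_subgroup_smul]
  exact isDefectGroup_map_conj hM hD g

/-- All blocks of the normaliser have the normal subgroup as defect group. -/
theorem defect_normalizer (hM : Cfsg.IsPModular p M) {P : Subgroup G} (hP : Nat.card P = p)
    (ha : (Nat.card N[P]).factorization p = 1) {b : Set (Cfsg.IrrCharacter N[P])}
    (hb : Cfsg.IsPBlock M b) :
    Cfsg.IsDefectGroup p M b (P.subgroupOf N[P]) ∧ Cfsg.blockDefect p b = 1 := by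
  have hcard : Nat.card (P.subgroupOf N[P]) = p := by
    rw [Nat.card_congr (Subgroup.subgroupOfEquivOfLe Subgroup.le_normalizer).toEquiv, hP]
  have hQ : IsPGroup p (P.subgroupOf N[P]) := IsPGroup.of_card (n := 1) (by rw [hcard, pow_one])
  haveI : (P.subgroupOf N[P]).Normal := Subgroup.normal_in_normalizer
  obtain ⟨D, hD⟩ := exists_isDefectGroup (p := p) hb
  have hle : P.subgroupOf N[P] ≤ D := by
    obtain ⟨g, hg, S, rfl⟩ := hD
    refine normal_le_of_le_centralizer hQ ?_ S
    have h := ((isDefectClass_iff hb g).mp hg).2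
    have hC : g ∈ Subgroup.centralizer ((P.subgroupOf N[P] : Subgroup N[P]) : Set N[P]) := by
      by_contra hn
      exact h (BrauerMap.Nilpotent.algHom_classSum_eq_zero hQ hn _)
    exact fun u hu => Subgroup.mem_centralizer_singleton_iff.mpr
      (Subgroup.mem_centralizer_iff.mp hC u hu)
  have hDc := card_isDefectGroup hM hb hD
  have hdle : Cfsg.blockDefect p b ≤ 1 := by
    have := minVdeg_add_blockDefect (p := p) hb
    omega
  have hDle : Nat.card D ≤ Nat.card (P.subgroupOf N[P]) := by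
    rw [hDc, hcard]
    exact (Nat.pow_le_pow_right (Fact.out : p.Prime).pos hdle).trans (pow_one p).le
  have heq := Subgroup.eq_of_le_of_card_ge hle hDle
  refine ⟨heq.symm ▸ hD, ?_⟩
  rw [← heq, hcard] at hDc
  exact (Nat.pow_right_injective (Fact.out : p.Prime).two_le
    (show p ^ 1 = p ^ _ by rw [pow_one]; exact hDc)).symm

/-- A block and its correspondent in the normaliser have equally many characters. -/
theorem card_correspondent (hM : Cfsg.IsPModular p M) (hl : RankLower.{u} p M) {P : Subgroup G}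
    (hP : Nat.card P = p) {b : Set (Cfsg.IrrCharacter N[P])} (hb : Cfsg.IsPBlock M b)
    (hbD : Cfsg.IsDefectGroup p M b (P.subgroupOf N[P])) {B : Set (Cfsg.IrrCharacter G)}
    (hind : Cfsg.IsInducedBlock M N[P] b B) : Nat.card b = Nat.card B := by
  have hPp : IsPGroup p P := IsPGroup.of_card (n := 1) (by rw [hP, pow_one])
  obtain ⟨f, hf, htop⟩ := exists_pair_of_isDef ((isDefectGroup_iff hb _).mp hbD)
  have htop' := (top_down_iff Subgroup.le_normalizer le_rfl f).mpr htop
  have hind' := isInducedBlock_toSet_pairBlk hPp hf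
  rw [toSet_blk] at hind'
  have hBe := eq_of_isInducedBlock hind hind'
  obtain ⟨r, hr, hr1⟩ := card_of_pair hM hl htop (pairOf_iff.mpr ⟨hPp, rfl⟩) hP
  rw [← hBe] at hr
  have hP' : Nat.card (P.subgroupOf N[P]) = p := by
    rw [Nat.card_congr (Subgroup.subgroupOfEquivOfLe Subgroup.le_normalizer).toEquiv, hP]
  obtain ⟨r', hr', hr1'⟩ := card_of_pair hM hl htop' hf hP'
  rw [toSet_blk] at hr'
  have hC : Subgroup.centralizer ((P.subgroupOf N[P] : Subgroup N[P]) : Set N[P]) =
      C[P].subgroupOf N[P] := by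
    ext x
    exact (mem_centralizer_subgroupOf_iff Subgroup.le_normalizer x).trans Subgroup.mem_subgroupOf.symm
  have hS : stab (⟨P.subgroupOf N[P],
      down Subgroup.le_normalizer (Subgroup.centralizer_le_normalizer _) f⟩ :
        Idx (Res M) N[P]) = (stab (⟨P, f⟩ : Idx (Res M) G)).subgroupOf N[P] := by
    ext x
    exact (Cfsg.Agent.Lib.BrauerPairs.LocalAbelian.mem_stab_down_iff Subgroup.le_normalizer
      (Subgroup.centralizer_le_normalizer _) f x).trans Subgroup.mem_subgroupOf.symm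
  have he : (C[P].subgroupOf N[P]).relIndex ((stab (⟨P, f⟩ : Idx (Res M) G)).subgroupOf N[P]) =
      C[P].relIndex (stab (⟨P, f⟩ : Idx (Res M) G)) :=
    Subgroup.relIndex_subgroupOf (stab_le_normalizer (⟨P, f⟩ : Idx (Res M) G))
  rw [hC, hS, he] at hr' hr1'
  rw [hr, hr', eq_of_mul_add hr1 hr1']

/-- A family of characters which is a union of blocks. -/
theorem card_eq_sum_blocks {H : Type u} [Group H] [Finite H] (Q : Cfsg.IrrCharacter H → Prop)
    (S : Set (Cfsg.IrrCharacter H) → Prop) [Fintype {B : Set (Cfsg.IrrCharacter H) //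
      Cfsg.IsPBlock M B ∧ S B}]
    (h : ∀ B : Set (Cfsg.IrrCharacter H), Cfsg.IsPBlock M B → ∀ χ ∈ B, Q χ ↔ S B) :
    Nat.card {χ : Cfsg.IrrCharacter H // Q χ} =
      ∑ B : {B : Set (Cfsg.IrrCharacter H) // Cfsg.IsPBlock M B ∧ S B}, Nat.card B.1 := by
  classical
  rw [← Nat.card_sigma]
  refine Nat.card_congr
    { toFun := fun χ => ⟨⟨Cfsg.blockOf M (χ.1 : H → ℂ), isPBlock_blockOf χ.1,
        (h _ (isPBlock_blockOf χ.1) χ.1 (mem_blockOf_self χ.1)).mp χ.2⟩,
        ⟨χ.1, mem_blockOf_self χ.1⟩⟩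
      invFun := fun x => ⟨x.2.1, (h _ x.1.2.1 _ x.2.2).mpr x.1.2.2⟩
      left_inv := fun χ => rfl
      right_inv := ?_ }
  rintro ⟨⟨B, hB, hS⟩, ⟨χ, hχ⟩⟩
  obtain ⟨χ₀, rfl⟩ := hB
  exact Sigma.subtype_ext (Subtype.ext (blockOf_eq_of_mem hχ)) rfl

/-- The count. -/
theorem card_pPrime_degree (hM : Cfsg.IsPModular p M) (hl : RankLower.{u} p M)
    (ha : (Nat.card G).factorization p = 1) (P : Sylow p G) :
    Nat.card {χ : Cfsg.IrrCharacter G // ¬ p ∣ Cfsg.charDegree (χ : G → ℂ)} =
      Nat.card (ConjClasses N[(P : Subgroup G)]) := by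
  classical
  have hp : p.Prime := Fact.out
  have hP : Nat.card (P : Subgroup G) = p := by rw [P.card_eq_multiplicity, ha, pow_one]
  have haN : (Nat.card N[(P : Subgroup G)]).factorization p = 1 := by
    have h1 : p ∣ Nat.card N[(P : Subgroup G)] :=
      (dvd_of_eq hP.symm).trans (Subgroup.card_dvd_of_le Subgroup.le_normalizer)
    have h2 := (Nat.factorization_le_iff_dvd Nat.card_pos.ne' Nat.card_pos.ne').mpr
      (Subgroup.card_subgroup_dvd_card N[(P : Subgroup G)]) p
    have h3 := (hp.dvd_iff_one_le_factorization Nat.card_pos.ne').mp h1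
    omega
  haveI := Fintype.ofFinite {B : Set (Cfsg.IrrCharacter G) //
    Cfsg.IsPBlock M B ∧ Cfsg.blockDefect p B = 1}
  haveI := Fintype.ofFinite {b : Set (Cfsg.IrrCharacter N[(P : Subgroup G)]) //
    Cfsg.IsPBlock M b ∧ True}
  rw [← Characters.Complete.card_irr_eq_card_conjClasses,
    card_eq_sum_blocks (fun χ : Cfsg.IrrCharacter G => ¬ p ∣ Cfsg.charDegree (χ : G → ℂ))
      (fun B => Cfsg.blockDefect p B = 1) (fun B hB χ hχ => not_dvd_iff hM ha hB hχ),
    ← Nat.card_congr (Equiv.subtypeUnivEquiv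
      (p := fun _ : Cfsg.IrrCharacter N[(P : Subgroup G)] => True) fun _ => trivial),
    card_eq_sum_blocks (M := M) (fun _ : Cfsg.IrrCharacter N[(P : Subgroup G)] => True)
      (fun _ => True) (fun _ _ _ _ => Iff.rfl)]
  obtain ⟨hf1, hf2⟩ := first_main (M := M) (p := p) P.2
  choose ι hι using fun b : {b : Set (Cfsg.IrrCharacter N[(P : Subgroup G)]) //
    Cfsg.IsPBlock M b ∧ True} => hf1 b.1 b.2.1 (defect_normalizer hM hP haN b.2.1).1
  have hdef : ∀ b, Cfsg.blockDefect p (ι b) = 1 := fun b => by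
    have h1 := card_isDefectGroup hM (hι b).1 (hι b).2.1
    rw [hP] at h1
    exact Nat.pow_right_injective hp.two_le (show p ^ _ = p ^ 1 by rw [pow_one]; exact h1.symm)
  refine (Fintype.sum_bijective (fun b => (⟨ι b, (hι b).1, hdef b⟩ :
    {B : Set (Cfsg.IrrCharacter G) // Cfsg.IsPBlock M B ∧ Cfsg.blockDefect p B = 1})) ⟨?_, ?_⟩
    _ _ fun b => card_correspondent hM hl hP b.2.1 (defect_normalizer hM hP haN b.2.1).1
      (hι b).2.2).symm
  · intro b b' hbb
    have e : ι b = ι b' := congrArg Subtype.val hbb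
    exact Subtype.ext ((hf2 _ (hι b).1 (hι b).2.1).unique
      ⟨b.2.1, (defect_normalizer hM hP haN b.2.1).1, (hι b).2.2⟩
      ⟨b'.2.1, (defect_normalizer hM hP haN b'.2.1).1, e ▸ (hι b').2.2⟩)
  · rintro ⟨B, hB, hB1⟩
    obtain ⟨b, ⟨hb, hbD, hbB⟩, -⟩ := hf2 B hB (sylow_isDefectGroup hM ha P hB hB1)
    exact ⟨⟨b, hb, trivial⟩, Subtype.ext (eq_of_isInducedBlock (hι ⟨b, hb, trivial⟩).2.2 hbB)⟩

end Cfsg.Agent.Lib.BlockSize.CountOne
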