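import Cfsg.Agent.Lib.BlockSize.Bound
import Cfsg.Agent.Lib.CyclicBlocks.Rank

/-!
# The lower bound for the number of modular characters

`Cfsg.Agent.Lib.CyclicBlocks.Rank.le_blockRank` in the form used by `Lib/BlockSize`.
-/

set_option autoImplicit false
set_option linter.style.haveILetI false

namespace Cfsg.Agent.Lib.BlockSize.Lower

open Cfsg.Agent.Lib.BrauerPairs.Bridge

universe u

attribute [local instance] Ideal.Quotient.field

/-- A block with cyclic defect group has at least as many modular characters as its inertial
index. -/
theorem rankLower {p : ℕ} [Fact p.Prime] {M : Ideal Cfsg.AlgInt} [M.IsMaximal]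
    [CharP (Res M) p] (hM : Cfsg.IsPModular p M) : Bound.RankLower.{u} p M :=
  fun _ _ _ _ _ _ _ hc => CyclicBlocks.Rank.le_blockRank hM hc

end Cfsg.Agent.Lib.BlockSize.Lower
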