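import Cfsg.Agent.Lib.BC77.QuotientBlock
import Cfsg.Agent.Lib.DeficiencyBound.CentralQuotient
import Cfsg.Agent.Lib.BrauerPairs.CentralRank
import Cfsg.Agent.Lib.Blocks.ContribRank

/-!
# The block of the quotient by a central subgroup of order p

For a central `N` of order `p` the characters of a block `b` trivial on `N` form a block of `C ⧸ N`
of defect one less, and their regular parts span those of `b`.
-/

set_option autoImplicit false
set_option linter.style.haveILetI false

namespace Cfsg.Agent.Lib.BlockSize.Quotient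

open Cfsg.Agent.Lib.BrauerMap.Inflation (infl infl_apply exists_infl)
open Cfsg.Agent.Lib.Characters.Basic
open Cfsg.Agent.Lib.Blocks Cfsg.Agent.Lib.Blocks.Contrib
open Cfsg.Agent.Lib.BrauerPairs

universe u

variable {C : Type u} [Group C] [Finite C] (N : Subgroup C) [N.Normal]

/-- Inflation from the quotient. -/
noncomputable def inf (ξ : Cfsg.IrrCharacter (C ⧸ N)) : Cfsg.IrrCharacter C :=
  infl (QuotientGroup.mk' N) (QuotientGroup.mk'_surjective N) ξ

theorem inf_apply (ξ : Cfsg.IrrCharacter (C ⧸ N)) (c : C) :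
    (inf N ξ : C → ℂ) c = (ξ : C ⧸ N → ℂ) (c : C ⧸ N) := rfl

theorem inf_injective : Function.Injective (inf N) := fun ξ η h => by
  refine Subtype.ext (funext fun q => ?_)
  induction q using QuotientGroup.induction_on with
  | _ c => exact congrFun (congrArg Subtype.val h) c

/-- The characters of `b` trivial on `N`. -/
def bar (b : Set (Cfsg.IrrCharacter C)) : Set (Cfsg.IrrCharacter (C ⧸ N)) := {ξ | inf N ξ ∈ b}

variable {N} {p : ℕ} [Fact p.Prime] {M : Ideal Cfsg.AlgInt} [M.IsMaximal]
  {b : Set (Cfsg.IrrCharacter C)}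

theorem isPGroup_of_card (hN : Nat.card N = p) : IsPGroup p N :=
  IsPGroup.of_card (n := 1) (by rw [hN, pow_one])

/-- The characters trivial on `N` form a block, with the images of the defect groups. -/
theorem isPBlock_bar (hM : Cfsg.IsPModular p M) (hb : Cfsg.IsPBlock M b)
    (hc : N ≤ Subgroup.center C) (hN : IsPGroup p N) :
    Cfsg.IsPBlock M (bar N b) ∧ ∀ D : Subgroup (C ⧸ N), Cfsg.IsDefectGroup p M (bar N b) D ↔
      ∃ P : Subgroup C, Cfsg.IsDefectGroup p M b P ∧ D = P.map (QuotientGroup.mk' N) := by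
  have hk : (QuotientGroup.mk' N).ker = N := QuotientGroup.ker_mk' N
  obtain ⟨Bb, hBb, hsub, hdef⟩ := BC77.QuotientBlock.exists_block_image hM (QuotientGroup.mk' N)
    (QuotientGroup.mk'_surjective N) (hk.symm ▸ hN) hb
  have heq : bar N b = Bb := by
    refine Set.Subset.antisymm (fun ξ hξ => ?_) fun ξ hξ => hsub ξ hξ
    obtain ⟨χ, hχ⟩ := isPBlock_nonempty hBb
    obtain ⟨χ₀, rfl⟩ := hb
    have h1 : inf N ξ ∈ Cfsg.blockOf M (inf N χ : C → ℂ) := by
      have h0 : inf N χ ∈ Cfsg.blockOf M (χ₀ : C → ℂ) := hsub χ hχ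
      rw [blockOf_eq_of_mem h0]
      exact hξ
    have h2 := DeficiencyBound.CentralQuotient.sameBlock_of_infl hM (QuotientGroup.mk' N)
      (QuotientGroup.mk'_surjective N) (hk.symm ▸ hc) (hk.symm ▸ hN) (χ := χ) (ψ := ξ) h1
    obtain ⟨φ, rfl⟩ := hBb
    rw [← blockOf_eq_of_mem hχ]
    exact h2
  exact heq ▸ ⟨hBb, hdef⟩

/-- The defect drops by the exponent of the order. -/
theorem blockDefect_bar_pow (hM : Cfsg.IsPModular p M) (hb : Cfsg.IsPBlock M b)
    (hc : N ≤ Subgroup.center C) {a : ℕ} (hN : Nat.card N = p ^ a) :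
    Cfsg.blockDefect p (bar N b) + a = Cfsg.blockDefect p b := by
  classical
  have hp : p.Prime := Fact.out
  have hNpg : IsPGroup p N := IsPGroup.of_card hN
  obtain ⟨hbar, hdef⟩ := isPBlock_bar hM hb hc hNpg
  obtain ⟨P, hP⟩ := exists_isDefectGroup (p := p) hb
  have hcard := card_isDefectGroup hM hb hP
  have hbcard := card_isDefectGroup hM hbar ((hdef _).mpr ⟨P, hP, rfl⟩)
  have hNP : N ≤ P := by
    obtain ⟨g, -, S, rfl⟩ := hP
    exact normal_le_of_le_centralizer hNpg (fun v hv =>
      Subgroup.mem_centralizer_singleton_iff.mpr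
        ((Subgroup.mem_center_iff.mp (hc hv) g).symm)) S
  have h2 : (P.map (QuotientGroup.mk' N)).index = P.index := by
    rw [← Subgroup.index_comap_of_surjective _ (QuotientGroup.mk'_surjective N),
      Subgroup.comap_map_eq_self (by rwa [QuotientGroup.ker_mk'])]
  have h3 := (P.map (QuotientGroup.mk' N)).card_mul_index
  rw [h2, hbcard] at h3
  have h4 : p ^ (Cfsg.blockDefect p (bar N b) + a) * P.index = p ^ Cfsg.blockDefect p b * P.index := by
    rw [← hcard, P.card_mul_index, pow_add, mul_right_comm, h3,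
      Subgroup.card_eq_card_quotient_mul_card_subgroup N, hN]
  exact Nat.pow_right_injective hp.two_le
    (Nat.eq_of_mul_eq_mul_right (Nat.pos_of_ne_zero Subgroup.index_ne_zero_of_finite) h4)

/-- The defect drops by one. -/
theorem blockDefect_bar (hM : Cfsg.IsPModular p M) (hb : Cfsg.IsPBlock M b)
    (hc : N ≤ Subgroup.center C) (hN : Nat.card N = p) :
    Cfsg.blockDefect p (bar N b) + 1 = Cfsg.blockDefect p b :=
  blockDefect_bar_pow hM hb hc (hN.trans (pow_one p).symm)

/-- The regular part of a character of `b` is a combination of the inflated characters of the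
block of the quotient. -/
theorem regular_expand (hM : Cfsg.IsPModular p M) (hb : Cfsg.IsPBlock M b)
    (hc : N ≤ Subgroup.center C) (hN : IsPGroup p N) {χ : Cfsg.IrrCharacter C} (hχ : χ ∈ b) :
    ∃ a : Cfsg.IrrCharacter (C ⧸ N) → ℂ, ∀ s : C, ¬ p ∣ orderOf s →
      (χ : C → ℂ) s = ∑ ξ ∈ bset (bar N b), a ξ * (inf N ξ : C → ℂ) s := by
  classical
  haveI := Fintype.ofFinite C
  haveI : Fintype N := Fintype.ofFinite _
  haveI := Fintype.ofFinite (Cfsg.IrrCharacter C)
  refine ⟨fun ξ => Cfsg.classInner (CentralRank.avgReg p N (χ : C → ℂ)) (inf N ξ), fun s hs => ?_⟩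
  have hexp := Characters.Complete.classFunction_eq_sum
    (CentralRank.avgReg_classFun (p := p) (Z := N) hc (isClassFunction_irr χ))
  conv_lhs => rw [← CentralRank.avgReg_regular hN hc (χ : C → ℂ) hs, hexp]
  rw [Finset.sum_apply]
  simp only [Pi.smul_apply, smul_eq_mul]
  rw [← Finset.sum_image (s := bset (bar N b)) (g := inf N)
    (f := fun ψ : Cfsg.IrrCharacter C => Cfsg.classInner (CentralRank.avgReg p N (χ : C → ℂ)) ψ *
      (ψ : C → ℂ) s) fun ξ _ η _ h => inf_injective N h]
  refine (Finset.sum_subset (Finset.subset_univ _) fun ψ _ hψ => ?_).symm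
  have h0 : Cfsg.classInner (CentralRank.avgReg p N (χ : C → ℂ)) ψ = 0 := by
    by_cases hk : N ≤ BlocksChars5.Basic.charKer ψ
    · by_cases hψb : ψ ∈ b
      · exfalso
        apply hψ
        obtain ⟨ξ, hξ⟩ := exists_infl (QuotientGroup.mk' N) (QuotientGroup.mk'_surjective N) ψ
          fun g hg => (BlocksChars5.Basic.mem_charKer ψ g).mp
            (hk ((QuotientGroup.eq_one_iff g).mp hg))
        subst hξ
        exact Finset.mem_image.mpr ⟨ξ, mem_bset.mpr hψb, rfl⟩
      · rw [CentralRank.classInner_avgReg hc _ ψ hk, regSum_eq_contribN,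
          contribN_eq_zero hM hb hχ hψb]
        simp
    · exact CentralRank.classInner_avgReg_eq_zero hc _ ψ hk
  rw [h0, zero_mul]

/-- The rank is at most the number of characters of the block of the quotient. -/
theorem blockRank_le_card_bar (hM : Cfsg.IsPModular p M) (hb : Cfsg.IsPBlock M b)
    (hc : N ≤ Subgroup.center C) (hN : IsPGroup p N) :
    Cfsg.blockRank p b ≤ Nat.card (bar N b) := by
  classical
  haveI := Fintype.ofFinite (bar N b)
  rw [Nat.card_eq_fintype_card]
  refine le_trans ?_ (finrank_range_le_card (R := ℂ)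
    fun ξ : bar N b => Cfsg.pRegularPart p (inf N ξ.1 : C → ℂ))
  rw [Cfsg.blockRank]
  refine Submodule.finrank_mono (Submodule.span_le.mpr ?_)
  rintro _ ⟨χ, hχ, rfl⟩
  obtain ⟨a, ha⟩ := regular_expand hM hb hc hN hχ
  have e : Cfsg.pRegularPart p (χ : C → ℂ) =
      ∑ ξ : bar N b, a ξ.1 • Cfsg.pRegularPart p (inf N ξ.1 : C → ℂ) := by
    funext g
    rw [Finset.sum_apply]
    simp only [Pi.smul_apply, smul_eq_mul, pRegularPart_apply]
    by_cases hg : p ∣ orderOf g
    · simp [hg]
    · simp only [if_neg hg]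
      rw [ha g hg, Finset.sum_subtype (bset (bar N b)) (fun _ => mem_bset)
        fun ξ => a ξ * (inf N ξ : C → ℂ) g]
  show Cfsg.pRegularPart p (χ : C → ℂ) ∈ _
  rw [e]
  exact Submodule.sum_mem _ fun ξ _ => Submodule.smul_mem _ _
    (Submodule.subset_span ⟨ξ, rfl⟩)

end Cfsg.Agent.Lib.BlockSize.Quotient
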