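import Cfsg.Agent.Lib.BlockSize.Quotient
import Cfsg.Agent.Lib.Brauer.Characterization
import Cfsg.Agent.Lib.Characters.Generalized

/-!
# Regular parts as integral combinations over a central quotient

For a central `p`-subgroup `N`, `g ↦ θ (g_{p'})` is a generalized character constant on the cosets
of `N`.
-/

set_option autoImplicit false
set_option linter.style.haveILetI false

namespace Cfsg.Agent.Lib.BlockSize.RegLift

open scoped ComplexConjugate
open Cfsg.Agent.Lib Cfsg.Agent.Lib.Characters.Basic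
open Cfsg.Agent.Lib.BlockSize.Quotient
open Cfsg.Agent.Lib.BrauerMap.Inflation (exists_infl)

universe u

variable {C : Type u} [Group C]

/-- An exponent taking every element to its regular part. -/
def IsRegExp (p : ℕ) (C : Type u) [Group C] (k : ℕ) : Prop :=
  p ^ (Nat.card C).factorization p ∣ k ∧
    k ≡ 1 [MOD Nat.card C / p ^ (Nat.card C).factorization p]

variable [Finite C] {p : ℕ} [Fact p.Prime]

theorem exists_regExp (p : ℕ) [Fact p.Prime] (C : Type u) [Group C] [Finite C] :
    ∃ k, IsRegExp p C k := by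
  have hp : p.Prime := Fact.out
  have hco : (p ^ (Nat.card C).factorization p).Coprime
      (Nat.card C / p ^ (Nat.card C).factorization p) :=
    (Nat.coprime_ordCompl hp Nat.card_pos.ne').pow_left _
  obtain ⟨k, h1, h2⟩ := Nat.chineseRemainder hco 0 1
  exact ⟨k, Nat.modEq_zero_iff_dvd.mp h1, h2⟩

variable {k : ℕ} (hk : IsRegExp p C k)
include hk

theorem pow_of_pPower {g : C} {a : ℕ} (hg : g ^ p ^ a = 1) : g ^ k = 1 := by
  have hp : p.Prime := Fact.out
  obtain ⟨j, -, hj⟩ := (Nat.dvd_prime_pow hp).mp (orderOf_dvd_of_pow_eq_one hg)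
  refine orderOf_dvd_iff_pow_eq_one.mp (dvd_trans ?_ hk.1)
  rw [hj]
  refine pow_dvd_pow p ?_
  exact (hp.pow_dvd_iff_le_factorization Nat.card_pos.ne').mp (hj ▸ orderOf_dvd_natCard g)

theorem pow_of_regular {g : C} (hg : ¬ p ∣ orderOf g) : g ^ k = g := by
  have hp : p.Prime := Fact.out
  have hd : orderOf g ∣ Nat.card C / p ^ (Nat.card C).factorization p := by
    refine (((hp.coprime_iff_not_dvd.mpr hg).symm).pow_right
      ((Nat.card C).factorization p)).dvd_of_dvd_mul_left ?_
    rw [Nat.ordProj_mul_ordCompl_eq_self]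
    exact orderOf_dvd_natCard g
  conv_rhs => rw [← pow_one g]
  exact pow_eq_pow_iff_modEq.mpr (hk.2.of_dvd hd)

theorem regular_pow (g : C) : ¬ p ∣ orderOf (g ^ k) := by
  have hp : p.Prime := Fact.out
  intro h
  have h1 : orderOf (g ^ k) ∣ Nat.card C / p ^ (Nat.card C).factorization p := by
    refine orderOf_dvd_of_pow_eq_one ?_
    rw [← pow_mul]
    refine orderOf_dvd_iff_pow_eq_one.mp ?_
    refine (orderOf_dvd_natCard g).trans ?_
    conv_lhs => rw [← Nat.ordProj_mul_ordCompl_eq_self (Nat.card C) p]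
    exact Nat.mul_dvd_mul_right hk.1 _
  exact Nat.not_dvd_ordCompl hp Nat.card_pos.ne' (h.trans h1)

/-- On a nilpotent subgroup the regular part is a homomorphism. -/
theorem mul_pow_subgroup (E : Subgroup C) [Group.IsNilpotent E] (a b : E) :
    (((a * b : E) : C)) ^ k = (a : C) ^ k * (b : C) ^ k := by
  obtain ⟨Q, -, hmem, hcomm⟩ := Characters.DefectZero.exists_hall (default : Sylow p E)
  set P : Sylow p E := default with hP
  haveI hPn : (P : Subgroup E).Normal :=
    Sylow.normal_of_normalizerCondition Group.normalizerCondition_of_isNilpotent P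
  have hQ : ∀ c : E, c ^ k ∈ Q := fun c => (hmem _).mpr ((Nat.Prime.coprime_iff_not_dvd Fact.out).mpr
    (by rw [← Subgroup.orderOf_coe, SubmonoidClass.coe_pow]; exact regular_pow hk _))
  have hp' : ∀ c : E, (c ^ k)⁻¹ * c ∈ (P : Subgroup E) := fun c => by
    set w := (c ^ k)⁻¹ * c with hw
    have hwk : (w : C) ^ k = 1 := by
      have hc : Commute (c ^ k)⁻¹ c := ((Commute.refl c).pow_left k).inv_left
      rw [← SubmonoidClass.coe_pow, hw, hc.mul_pow, inv_pow]
      simp only [Subgroup.coe_mul, Subgroup.coe_inv, SubmonoidClass.coe_pow]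
      rw [pow_of_regular hk (regular_pow hk (c : C)), inv_mul_cancel]
    have hwp : IsPGroup p (Subgroup.zpowers w) := by
      obtain ⟨a, m, hm, he⟩ := Nat.exists_eq_pow_mul_and_not_dvd
        (orderOf_pos (w : C)).ne' p (Fact.out : p.Prime).ne_one
      have h3 : ((w : C) ^ p ^ a) ^ k = (w : C) ^ p ^ a := by
        refine pow_of_regular hk ?_
        rw [orderOf_pow' _ (pow_ne_zero _ (Fact.out : p.Prime).ne_zero), he, Nat.gcd_mul_right_left,
          Nat.mul_div_cancel_left _ (pow_pos (Fact.out : p.Prime).pos _)]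
        exact hm
      rw [← pow_mul, mul_comm, pow_mul, hwk, one_pow] at h3
      refine IsPGroup.of_card_dvd_pow (n := a) ?_
      rw [Nat.card_zpowers, ← Subgroup.orderOf_coe]
      exact orderOf_dvd_of_pow_eq_one h3.symm
    obtain ⟨R, hR⟩ := hwp.exists_le_sylow
    haveI := Sylow.unique_of_normal P hPn
    rw [Subsingleton.elim P R]
    exact hR (Subgroup.mem_zpowers w)
  have h1 : a * b = (a ^ k * b ^ k) * (((a ^ k)⁻¹ * a) * ((b ^ k)⁻¹ * b)) := by
    have h2 : Commute (b ^ k) ((a ^ k)⁻¹ * a) := (hcomm _ (hQ b) _ (hp' a)).symm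
    calc a * b = a ^ k * ((a ^ k)⁻¹ * a) * (b ^ k * ((b ^ k)⁻¹ * b)) := by group
      _ = a ^ k * (((a ^ k)⁻¹ * a) * b ^ k) * ((b ^ k)⁻¹ * b) := by simp only [mul_assoc]
      _ = _ := by rw [← h2.eq]; simp only [mul_assoc]
  have h2 : Commute (a ^ k * b ^ k) (((a ^ k)⁻¹ * a) * ((b ^ k)⁻¹ * b)) :=
    (hcomm _ (Q.mul_mem (hQ a) (hQ b)) _
      ((P : Subgroup E).mul_mem (hp' a) (hp' b))).symm
  have h3 : (((a ^ k)⁻¹ * a) * ((b ^ k)⁻¹ * b)) ^ k = 1 := by
    obtain ⟨n, hn⟩ := P.isPGroup' ⟨_, (P : Subgroup E).mul_mem (hp' a) (hp' b)⟩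
    refine Subtype.ext ?_
    rw [SubmonoidClass.coe_pow, Subgroup.coe_one]
    refine pow_of_pPower hk (a := n) ?_
    have := congrArg (fun x : (P : Subgroup E) => ((x : E) : C)) hn
    simpa using this
  have h4 : ((a ^ k * b ^ k) ^ k : E) = a ^ k * b ^ k := Subtype.ext <| by
    rw [SubmonoidClass.coe_pow]
    refine pow_of_regular hk ?_
    rw [Subgroup.orderOf_coe]
    exact (Nat.Prime.coprime_iff_not_dvd Fact.out).mp ((hmem _).mp (Q.mul_mem (hQ a) (hQ b)))
  have h5 : (a * b) ^ k = a ^ k * b ^ k := by rw [h1, h2.mul_pow, h3, mul_one, h4]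
  simpa using congrArg (fun x : E => (x : C)) h5

omit hk in
/-- The regular part of a character is a generalized character. -/
theorem isGeneralized_regular [Fintype C] (hk : IsRegExp p C k) (θ : Cfsg.IrrCharacter C) :
    Cfsg.IsGeneralizedCharacter C (fun g => (θ : C → ℂ) (g ^ k)) := by
  refine Brauer.Characterization.isGeneralized_of_mem
    (Brauer.Characterization.mem_of_elementary (R := ℤ) (fun g h => ?_) fun E _ q hq hel => ?_)
  · show (θ : C → ℂ) ((h * g * h⁻¹) ^ k) = (θ : C → ℂ) (g ^ k)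
    rw [conj_pow]
    exact isClassFunction_irr θ (g ^ k) h
  · haveI := Brauer.Monomial.isNilpotent_of_elementary hq hel
    let φ : E →* C :=
      { toFun := fun e => (e : C) ^ k
        map_one' := by simp
        map_mul' := fun a b => mul_pow_subgroup hk E a b }
    exact Submodule.span_mono (fun f hf => by
        obtain ⟨H, -, l, rfl⟩ := hf
        exact ⟨H, trivial, l, rfl⟩)
      (Brauer.Monomial.char_mem (isCharacter_comp φ (isCharacter_irr θ)))

omit hk in
/-- The regular part of a character is an integral combination of inflated characters. -/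
theorem int_expand [Fintype C] {N : Subgroup C} [N.Normal] [Fintype (Cfsg.IrrCharacter (C ⧸ N))]
    (hc : N ≤ Subgroup.center C) (hN : IsPGroup p N) (θ : Cfsg.IrrCharacter C) :
    ∃ z : Cfsg.IrrCharacter (C ⧸ N) → ℤ, ∀ s : C, ¬ p ∣ orderOf s →
      (θ : C → ℂ) s = ∑ ξ, (z ξ : ℂ) * (inf N ξ : C → ℂ) s := by
  classical
  haveI := Fintype.ofFinite (Cfsg.IrrCharacter C)
  obtain ⟨k, hk⟩ := exists_regExp p C
  set f : C → ℂ := fun g => (θ : C → ℂ) (g ^ k) with hf
  have hgen := isGeneralized_regular hk θ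
  have hcl := Characters.Generalized.isClassFunction hgen
  have hinv : ∀ w ∈ N, ∀ g, f (w * g) = f g := fun w hw g => by
    obtain ⟨a, ha⟩ := hN ⟨w, hw⟩
    have h1 : w ^ p ^ a = 1 := by simpa using congrArg Subtype.val ha
    have h2 : Commute w g := (Subgroup.mem_center_iff.mp (hc hw) g).symm
    simp only [hf, h2.mul_pow, pow_of_pPower hk h1, one_mul]
  have hz : ∀ ψ : Cfsg.IrrCharacter C, ∃ z : ℤ, Cfsg.classInner f ψ = z := fun ψ =>
    Characters.Generalized.exists_classInner_int hgen
      (Characters.Generalized.of_isCharacter (isCharacter_irr ψ))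
  choose z hz using hz
  refine ⟨fun ξ => z (inf N ξ), fun s hs => ?_⟩
  have h0 : ∀ ψ : Cfsg.IrrCharacter C, ψ ∉ Finset.univ.image (inf N) → z ψ = 0 := by
    intro ψ hψ
    have hker : ¬ N ≤ BlocksChars5.Basic.charKer ψ := fun hk' => hψ <| by
      obtain ⟨ξ, hξ⟩ := exists_infl (QuotientGroup.mk' N) (QuotientGroup.mk'_surjective N) ψ
        fun g hg => (BlocksChars5.Basic.mem_charKer ψ g).mp
          (hk' ((QuotientGroup.eq_one_iff g).mp hg))
      exact Finset.mem_image.mpr ⟨ξ, Finset.mem_univ _, hξ⟩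
    obtain ⟨w, hw, hne⟩ := SetLike.not_le_iff_exists.mp hker
    have h1 : ∑ g : C, f g * conj ((ψ : C → ℂ) g) =
        conj ((ψ : C → ℂ) w / (ψ : C → ℂ) 1) * ∑ g : C, f g * conj ((ψ : C → ℂ) g) := by
      rw [Finset.mul_sum]
      refine (Fintype.sum_equiv (Equiv.mulLeft w) _ _ fun g => ?_).symm
      rw [Equiv.coe_mulLeft, hinv w hw, BC78.Central.char_mul_central ψ.2 (hc hw) g, map_mul]
      ring
    have hc' : conj ((ψ : C → ℂ) w / (ψ : C → ℂ) 1) ≠ 1 := by
      intro h
      apply hne
      have h2 := congrArg conj h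
      rw [RingHomCompTriple.comp_apply, RingHom.id_apply, map_one,
        div_eq_one_iff_eq (apply_one_ne_zero ψ)] at h2
      exact (BlocksChars5.Basic.mem_charKer ψ w).mpr h2
    have h2 : (1 - conj ((ψ : C → ℂ) w / (ψ : C → ℂ) 1)) *
        ∑ g : C, f g * conj ((ψ : C → ℂ) g) = 0 := by linear_combination h1
    have h3 : Cfsg.classInner f ψ = 0 := by
      rw [Cfsg.classInner, (mul_eq_zero.mp h2).resolve_left (sub_ne_zero.mpr (Ne.symm hc')),
        mul_zero]
    rw [hz] at h3
    exact_mod_cast h3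
  have hsum := congrFun (Characters.Complete.classFunction_eq_sum hcl) s
  rw [Finset.sum_apply] at hsum
  simp only [Pi.smul_apply, smul_eq_mul] at hsum
  simp only [hf] at hz
  simp only [hz] at hsum
  rw [pow_of_regular hk hs] at hsum
  rw [hsum, ← Finset.sum_subset (Finset.subset_univ (Finset.univ.image (inf N)))
    fun ψ _ hψ => by rw [h0 ψ hψ, Int.cast_zero, zero_mul],
    Finset.sum_image fun ξ _ η _ h => inf_injective N h]

end Cfsg.Agent.Lib.BlockSize.RegLift
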