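import Cfsg.Agent.Lib.CyclicBlocks.Main
import Cfsg.Agent.Lib.Blocks.ContribBase

/-!
# Regular inner products in a block with the structure of a cyclic block

With the signs of the structure they are `|Q| (n δ - m) / n`, `m` the number of exceptional
characters.
-/

set_option autoImplicit false
set_option linter.style.haveILetI false

namespace Cfsg.Agent.Lib.BlockSize.Star

open Cfsg.Agent.Lib.Characters.Basic
open Cfsg.Agent.Lib.Blocks.Contrib
open Cfsg.Agent.Lib.CyclicBlocks.Main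

universe u

variable {Q : Type u} [Group Q] [Fintype Q] {p n e : ℕ} [Fact p.Prime]
  {B : Set (Cfsg.IrrCharacter Q)} {X Y : Finset (Cfsg.IrrCharacter Q)}
  {δ : Cfsg.IrrCharacter Q → ℤ} {δ₀ : ℤ}

theorem sum_mul_inv (χ ψ : Cfsg.IrrCharacter Q) [Decidable (χ = ψ)] :
    ∑ g : Q, (χ : Q → ℂ) g * (ψ : Q → ℂ) g⁻¹ = if χ = ψ then (Nat.card Q : ℂ) else 0 := by
  classical
  have h := classInner_irr χ ψ
  rw [Cfsg.classInner] at h
  simp only [apply_inv (isCharacter_irr ψ)]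
  have hq : (Nat.card Q : ℂ) ≠ 0 := Nat.cast_ne_zero.mpr Nat.card_pos.ne'
  by_cases hcp : χ = ψ
  · rw [if_pos hcp]
    rw [if_pos hcp] at h
    exact (inv_mul_eq_one₀ hq).mp h |>.symm
  · rw [if_neg hcp]
    rw [if_neg hcp] at h
    exact (mul_eq_zero.mp h).resolve_left (inv_ne_zero hq)

omit [Fact p.Prime] in
/-- The regular inner product is the full one less the singular one. -/
theorem regSum_eq_sub (χ ψ : Cfsg.IrrCharacter Q) [Decidable (χ = ψ)] :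
    regSum p (χ : Q → ℂ) (ψ : Q → ℂ) = (if χ = ψ then (Nat.card Q : ℂ) else 0) -
      ∑ g : Q, if p ∣ orderOf g then (χ : Q → ℂ) g * (ψ : Q → ℂ) g⁻¹ else 0 := by
  rw [regSum_eq_sum, ← sum_mul_inv χ ψ, ← Finset.sum_sub_distrib]
  exact Finset.sum_congr rfl fun g _ => by split_ifs <;> ring

/-- The regular inner products of the non-exceptional characters. -/
theorem gram (h : CyclicStruct p B n e X Y δ δ₀) (hn1 : n ≠ 1) {ξ ξ' : Cfsg.IrrCharacter Q}
    [Decidable (ξ = ξ')] (hξ : ξ ∈ X) (hξ' : ξ' ∈ X) :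
    (n : ℂ) * ((δ ξ : ℂ) * (δ ξ' : ℂ) * regSum p (ξ : Q → ℂ) (ξ' : Q → ℂ)) =
      (Nat.card Q : ℂ) * ((if ξ = ξ' then (n : ℂ) else 0) - (Y.card : ℂ)) := by
  classical
  have hsq : ∀ χ ∈ X, (δ χ : ℂ) * (δ χ : ℂ) = 1 := fun χ hχ => by
    rcases h.sign χ hχ with e | e <;> rw [e] <;> simp
  have hsq₀ : (δ₀ : ℂ) * (δ₀ : ℂ) = 1 := by
    rcases h.sign₀ with e | e <;> rw [e] <;> simp
  set S : Q → ℂ := fun g => (δ ξ : ℂ) * (ξ : Q → ℂ) g with hS
  set K : ℂ := ∑ g : Q, if p ∣ orderOf g then S g * S g⁻¹ else 0 with hK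
  have hXS : ∀ χ ∈ X, ∀ g : Q, p ∣ orderOf g → (δ χ : ℂ) * (χ : Q → ℂ) g = S g :=
    fun χ hχ g hg => h.congrX χ hχ ξ hξ g hg
  have hA : ∀ χ ∈ X, ∀ χ' ∈ X, (δ χ : ℂ) * (δ χ' : ℂ) * regSum p (χ : Q → ℂ) (χ' : Q → ℂ) =
      (if χ = χ' then (Nat.card Q : ℂ) else 0) - K := by
    intro χ hχ χ' hχ'
    rw [regSum_eq_sub, mul_sub, Finset.mul_sum, hK]
    congr 1
    · split_ifs with e
      · subst e; rw [hsq χ hχ, one_mul]
      · rw [mul_zero]
    · refine Finset.sum_congr rfl fun g _ => ?_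
      split_ifs with hg
      · rw [← hXS χ hχ g hg, ← hXS χ' hχ' g⁻¹ (by rwa [orderOf_inv])]
        ring
      · rw [mul_zero]
  -- against the exceptional characters
  have hY : ∀ η ∈ Y, ∀ η' ∈ Y, regSum p (ξ : Q → ℂ) (η : Q → ℂ) =
      regSum p (ξ : Q → ℂ) (η' : Q → ℂ) := by
    intro η hη η' hη'
    rw [regSum_eq_sum, regSum_eq_sum]
    refine Finset.sum_congr rfl fun g _ => ?_
    split_ifs with hg
    · rfl
    · rw [h.exc_eq η hη η' hη' g⁻¹ (by rwa [orderOf_inv])]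
  have hne : ∀ η ∈ Y, ξ ≠ η := fun η hη e =>
    Finset.disjoint_left.mp h.disjoint hξ (e ▸ hη)
  have hsum : (δ ξ : ℂ) * (δ₀ : ℂ) * ∑ η ∈ Y, regSum p (ξ : Q → ℂ) (η : Q → ℂ) = -K := by
    rw [Finset.sum_congr rfl fun (η : Cfsg.IrrCharacter Q) (hη : η ∈ Y) => show regSum p (ξ : Q → ℂ) (η : Q → ℂ) =
      -∑ g : Q, if p ∣ orderOf g then (ξ : Q → ℂ) g * (η : Q → ℂ) g⁻¹ else 0 by
        rw [regSum_eq_sub, if_neg (hne η hη), zero_sub]]
    rw [Finset.sum_neg_distrib, mul_neg, neg_inj, Finset.sum_comm, hK, Finset.mul_sum]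
    refine Finset.sum_congr rfl fun g _ => ?_
    by_cases hg : p ∣ orderOf g
    · simp only [if_pos hg, ← Finset.mul_sum]
      have h1 : (δ₀ : ℂ) * ∑ η ∈ Y, (η : Q → ℂ) g⁻¹ = S g⁻¹ :=
        (sub_eq_zero.mp (h.congrY ξ hξ g⁻¹ (by rwa [orderOf_inv]))).symm
      rw [← h1, hS]
      ring
    · simp [hg]
  obtain ⟨η₀, hη₀⟩ : Y.Nonempty := by
    rw [← Finset.card_pos]
    refine Nat.pos_of_ne_zero fun h0 => hn1 ?_
    have := h.cardY
    rw [h0, mul_zero, zero_add] at this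
    exact this.symm
  rw [Finset.sum_congr rfl fun η hη => hY η hη η₀ hη₀, Finset.sum_const, nsmul_eq_mul] at hsum
  -- the relation
  have hrel : (δ₀ : ℂ) * regSum p (ξ : Q → ℂ) (η₀ : Q → ℂ) +
      ∑ χ ∈ X, (δ χ : ℂ) * regSum p (ξ : Q → ℂ) (χ : Q → ℂ) = 0 := by
    simp only [regSum_eq_sum, Finset.mul_sum]
    rw [Finset.sum_comm, ← Finset.sum_add_distrib]
    refine Finset.sum_eq_zero fun g _ => ?_
    by_cases hg : p ∣ orderOf g
    · simp [hg]
    · simp only [if_neg hg]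
      have h1 := h.relation η₀ hη₀ g⁻¹ (by rwa [orderOf_inv])
      have h2 := congrArg ((ξ : Q → ℂ) g * ·) h1
      simp only [mul_add, Finset.mul_sum, mul_zero, mul_left_comm] at h2 ⊢
      exact h2
  have hsumA : ∑ χ ∈ X, (δ ξ : ℂ) * (δ χ : ℂ) * regSum p (ξ : Q → ℂ) (χ : Q → ℂ) =
      (Nat.card Q : ℂ) - (e : ℂ) * K := by
    rw [Finset.sum_congr rfl fun χ hχ => hA ξ hξ χ hχ, Finset.sum_sub_distrib,
      Finset.sum_ite_eq, if_pos hξ, Finset.sum_const, h.cardX, nsmul_eq_mul]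
  have hp : (n : ℂ) = (e : ℂ) * (Y.card : ℂ) + 1 := by exact_mod_cast h.cardY.symm
  have h3 := congrArg ((δ ξ : ℂ) * ·) hrel
  simp only [mul_add, Finset.mul_sum, ← mul_assoc, mul_zero] at h3
  rw [hsumA] at h3
  have hKval : (n : ℂ) * K = (Y.card : ℂ) * (Nat.card Q : ℂ) := by
    rw [hp]
    linear_combination hsum - (Y.card : ℂ) * h3
  rw [hA ξ hξ ξ' hξ', mul_sub, hKval]
  split_ifs <;> ring

end Cfsg.Agent.Lib.BlockSize.Star
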