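import Cfsg.Agent.Lib.BlockSize.Quotient
import Cfsg.Agent.Lib.BlockSize.RegLift
import Cfsg.Agent.Lib.BlockSize.Star
import Cfsg.Agent.Lib.BC78.RankTwo
import Cfsg.Agent.Lib.Blocks.ContribBound

/-!
# Major subsections with cyclic quotient block: `k(B) ≤ p ^ d`

When the block of the quotient by a central subgroup of order `p ^ a` has the structure of a cyclic
block with defect group of order `p ^ f`, its star gives `e + 1` integral coordinates with squared
norms adding up to `2 p ^ a (e + m)`, two of which are non-zero at each character.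
-/

set_option autoImplicit false
set_option linter.style.haveILetI false

namespace Cfsg.Agent.Lib.BlockSize.Two

open Cfsg.Agent.Lib.Blocks Cfsg.Agent.Lib.Blocks.Contrib
open Cfsg.Agent.Lib.Blocks.SectionMatrix Cfsg.Agent.Lib.Blocks.SectionPart
open Cfsg.Agent.Lib.Characters.Basic
open Cfsg.Agent.Lib.BC78.RankTwo (Eig coord coord_add_mul count)
open Cfsg.Agent.Lib.BlockSize.Quotient
open Cfsg.Agent.Lib.CyclicBlocks.Main

universe u

variable {G : Type u} [Group G] [Fintype G] {p : ℕ} [Fact p.Prime] {M : Ideal Cfsg.AlgInt}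
  [M.IsMaximal] (hM : Cfsg.IsPModular p M) {H : Subgroup G} [Fintype H]
  {b : Set (Cfsg.IrrCharacter H)} (hb : Cfsg.IsPBlock M b)

include hM hb in
/-- Relations on regular elements pass to the matrix of `b`. -/
theorem nq_eq_sum {ι : Type*} (s : Finset ι) (a : ι → ℂ) (c : ι → Cfsg.IrrCharacter H)
    {ζ : Cfsg.IrrCharacter H}
    (h : ∀ g : H, ¬ p ∣ orderOf g →
      (ζ : H → ℂ) g = ∑ i ∈ s, a i * (c i : H → ℂ) g)
    {θ : Cfsg.IrrCharacter H} (hθ : θ ∈ b) :
    (nq p b θ ζ : ℂ) = ∑ i ∈ s, a i * (nq p b θ (c i) : ℂ) := by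
  classical
  haveI := Fintype.ofFinite (Cfsg.IrrCharacter H)
  let f : Cfsg.IrrCharacter H → ℂ := fun η =>
    (if η = ζ then 1 else 0) - ∑ i ∈ s, if η = c i then a i else 0
  have h1 := sum_mul_contribN_eq_zero (p := p) f (fun g hg => by
    simp only [f, sub_mul, Finset.sum_sub_distrib, ite_mul, one_mul, zero_mul, Finset.sum_mul]
    rw [Finset.sum_comm]
    simp only [Finset.sum_ite_eq', Finset.mem_univ, if_true]
    rw [h g hg, sub_self]) θ
  simp only [f, sub_mul, Finset.sum_sub_distrib, ite_mul, one_mul, zero_mul, Finset.sum_mul]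
    at h1
  rw [Finset.sum_comm] at h1
  simp only [Finset.sum_ite_eq', Finset.mem_univ, if_true] at h1
  have hc : ∀ η : Cfsg.IrrCharacter H,
      (contribN p η θ : ℂ) = (p : ℂ) ^ minVdeg p b * (nq p b θ η : ℂ) := fun η => by
    rw [contribN_comm, ← pow_mul_nq hM hb hθ η]
    push_cast
    rfl
  simp only [hc, mul_left_comm (b := (p : ℂ) ^ minVdeg p b), ← Finset.mul_sum, ← mul_sub] at h1
  exact sub_eq_zero.mp ((mul_eq_zero.mp h1).resolve_left
    (pow_ne_zero _ (Nat.cast_ne_zero.mpr (Fact.out : p.Prime).ne_zero)))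

include hM hb in
/-- Relations on regular elements pass to the rows. -/
theorem rowq_eq_sum {ι : Type*} (s : Finset ι) (a : ι → ℂ) (c : ι → Cfsg.IrrCharacter H)
    {ζ : Cfsg.IrrCharacter H}
    (h : ∀ g : H, ¬ p ∣ orderOf g →
      (ζ : H → ℂ) g = ∑ i ∈ s, a i * (c i : H → ℂ) g)
    (x : H) (χ : Cfsg.IrrCharacter G) :
    rowq p b x χ ζ = ∑ i ∈ s, a i * rowq p b x χ (c i) := by
  classical
  simp only [rowq, Finset.mul_sum]
  rw [Finset.sum_comm]
  refine Finset.sum_congr rfl fun θ hθ => ?_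
  rw [nq_eq_sum hM hb s a c h (mem_bset.mp hθ), Finset.mul_sum]
  exact Finset.sum_congr rfl fun i _ => by ring

variable {N : Subgroup H} [N.Normal]

omit [Fintype G] [M.IsMaximal] in
/-- Regular inner products of inflated characters. -/
theorem regSum_inf [Fintype (H ⧸ N)] (hc : N ≤ Subgroup.center H) (hN : IsPGroup p N)
    (ξ ξ' : Cfsg.IrrCharacter (H ⧸ N)) :
    regSum p (inf N ξ : H → ℂ) (inf N ξ' : H → ℂ) =
      regSum p (ξ : H ⧸ N → ℂ) (ξ' : H ⧸ N → ℂ) := by
  classical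
  rw [regSum_eq_sum, regSum_eq_sum, Finset.sum_ite, Finset.sum_const_zero, zero_add,
    Finset.sum_ite, Finset.sum_const_zero, zero_add]
  have hk : (QuotientGroup.mk' N).ker = N := QuotientGroup.ker_mk' N
  have hu : ∀ q : H ⧸ N, ¬ p ∣ orderOf q → ∃! c : H, (c : H ⧸ N) = q ∧ ¬ p ∣ orderOf c :=
    DeficiencyBound.CentralQuotient.existsUnique_regular (QuotientGroup.mk' N)
      (QuotientGroup.mk'_surjective N) (hk.symm ▸ hc) (hk.symm ▸ hN)
  refine Finset.sum_bij (fun c _ => (c : H ⧸ N)) (fun c hc' => ?_) (fun c hc' c' hc'' hcc => ?_)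
    (fun q hq => ?_) fun c _ => rfl
  · have := (Finset.mem_filter.mp hc').2
    exact Finset.mem_filter.mpr
      ⟨Finset.mem_univ _, fun hd => this (hd.trans (orderOf_map_dvd (QuotientGroup.mk' N) c))⟩
  · have h1 := (Finset.mem_filter.mp hc').2
    have h2 := (Finset.mem_filter.mp hc'').2
    exact (hu _ fun hd => h1 (hd.trans (orderOf_map_dvd (QuotientGroup.mk' N) c))).unique
      ⟨rfl, h1⟩ ⟨hcc.symm, h2⟩
  · obtain ⟨c, hc1, hc2⟩ := (hu q (Finset.mem_filter.mp hq).2).exists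
    exact ⟨c, Finset.mem_filter.mpr ⟨Finset.mem_univ _, hc2⟩, hc1⟩

include hM hb in
/-- The matrix of `b` on the inflated non-exceptional characters is the star. -/
theorem nq_inf (hc : N ≤ Subgroup.center H) {a f : ℕ} (hN : Nat.card N = p ^ a) (hf : 1 ≤ f)
    (hd : Cfsg.blockDefect p b = a + f) {X Y : Finset (Cfsg.IrrCharacter (H ⧸ N))} {e : ℕ}
    {δ : Cfsg.IrrCharacter (H ⧸ N) → ℤ} {δ₀ : ℤ}
    (hs : CyclicStruct p (bar N b) (p ^ f) e X Y δ δ₀) {ξ ξ' : Cfsg.IrrCharacter (H ⧸ N)}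
    [Decidable (ξ = ξ')] (hξ : ξ ∈ X) (hξ' : ξ' ∈ X) :
    δ ξ * δ ξ' * nq p b (inf N ξ) (inf N ξ') =
      (if ξ = ξ' then ((p ^ f : ℕ) : ℤ) else 0) - (Y.card : ℤ) := by
  classical
  have hp : p.Prime := Fact.out
  haveI := Fintype.ofFinite (H ⧸ N)
  have hNp : IsPGroup p N := IsPGroup.of_card hN
  have hcard : Nat.card H = Nat.card (H ⧸ N) * p ^ a := by
    rw [← hN]; exact Subgroup.card_eq_card_quotient_mul_card_subgroup N
  have hmin := minVdeg_add_blockDefect (p := p) hb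
  have hξb : inf N ξ ∈ b := (hs.mem_iff ξ).mpr (Or.inl hξ)
  have hreg := regSum_inf (p := p) hc hNp ξ ξ'
  rw [regSum_eq_contribN, ← pow_mul_nq hM hb hξb (inf N ξ')] at hreg
  have hg := Star.gram hs (Nat.one_lt_pow (by omega) hp.one_lt).ne' hξ hξ'
  rw [← hreg] at hg
  push_cast at hg
  have hH := natCast_card_eq p H
  rw [← hmin, hd, hcard] at hH
  push_cast at hH
  have hp0 : (p : ℂ) ≠ 0 := Nat.cast_ne_zero.mpr hp.ne_zero
  have hm0 : (primeToCard p H : ℂ) ≠ 0 := Nat.cast_ne_zero.mpr (primeToCard_pos p).ne'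
  have : ((δ ξ * δ ξ' * nq p b (inf N ξ) (inf N ξ') : ℤ) : ℂ) =
      (((if ξ = ξ' then ((p ^ f : ℕ) : ℤ) else 0) - (Y.card : ℤ) : ℤ) : ℂ) := by
    refine mul_left_cancel₀ (mul_ne_zero (pow_ne_zero (minVdeg p b + (a + f)) hp0) hm0) ?_
    push_cast [apply_ite (Int.cast : ℤ → ℂ)]
    linear_combination (p : ℂ) ^ a * hg +
      ((if ξ = ξ' then (p : ℂ) ^ f else 0) - (Y.card : ℂ)) * hH
  exact_mod_cast this

/-- The coordinates at a vertex of the star. -/
noncomputable def star (b : Set (Cfsg.IrrCharacter H)) (p n : ℕ)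
    (X : Finset (Cfsg.IrrCharacter (H ⧸ N))) (δ : Cfsg.IrrCharacter (H ⧸ N) → ℤ) (m : ℕ)
    (ξ : Cfsg.IrrCharacter (H ⧸ N)) (θ : Cfsg.IrrCharacter H) : ℤ :=
  (δ ξ * nq p b θ (inf N ξ) + (m : ℤ) * ∑ ξ' ∈ X, δ ξ' * nq p b θ (inf N ξ')) / (n : ℤ)

include hM hb in
/-- The coordinates at the vertices: fixed by the matrix, with Gram matrix `p ^ a (δ + m)`. -/
theorem star_spec (hc : N ≤ Subgroup.center H) {a f : ℕ} (hN : Nat.card N = p ^ a) (hf : 1 ≤ f)
    (hd : Cfsg.blockDefect p b = a + f) {X Y : Finset (Cfsg.IrrCharacter (H ⧸ N))} {e : ℕ}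
    {δ : Cfsg.IrrCharacter (H ⧸ N) → ℤ} {δ₀ : ℤ}
    (hs : CyclicStruct p (bar N b) (p ^ f) e X Y δ δ₀) :
    (∀ ξ ∈ X, ∀ θ ∈ b, ((p ^ f : ℕ) : ℤ) * star b p (p ^ f) X δ Y.card ξ θ =
      δ ξ * nq p b θ (inf N ξ) + (Y.card : ℤ) * ∑ ξ' ∈ X, δ ξ' * nq p b θ (inf N ξ')) ∧
    (∀ ξ ∈ X, Eig p b (star b p (p ^ f) X δ Y.card ξ)) ∧
    ∀ (ξ ξ' : Cfsg.IrrCharacter (H ⧸ N)) [Decidable (ξ = ξ')], ξ ∈ X → ξ' ∈ X →
      ∑ θ ∈ bset b, star b p (p ^ f) X δ Y.card ξ θ * star b p (p ^ f) X δ Y.card ξ' θ =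
        ((p ^ a : ℕ) : ℤ) * ((if ξ = ξ' then 1 else 0) + (Y.card : ℤ)) := by
  classical
  have hp : p.Prime := Fact.out
  haveI := Fintype.ofFinite (Cfsg.IrrCharacter (H ⧸ N))
  set n : ℕ := p ^ f with hn
  have hp0 : (n : ℤ) ≠ 0 := mod_cast (pow_ne_zero f hp.ne_zero)
  set m : ℤ := (Y.card : ℤ) with hm
  set g : Cfsg.IrrCharacter (H ⧸ N) → Cfsg.IrrCharacter (H ⧸ N) → ℤ :=
    fun ξ ξ' => (if ξ = ξ' then (n : ℤ) else 0) - m with hg
  have hnq : ∀ ξ ∈ X, ∀ ξ' ∈ X, δ ξ * δ ξ' * nq p b (inf N ξ) (inf N ξ') = g ξ ξ' :=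
    fun ξ hξ ξ' hξ' => nq_inf hM hb hc hN hf hd hs hξ hξ'
  have hmem : ∀ ξ ∈ X, inf N ξ ∈ b := fun ξ hξ => (hs.mem_iff ξ).mpr (Or.inl hξ)
  have hem : (e : ℤ) * m + 1 = n := by rw [hm]; exact_mod_cast hs.cardY
  have hsq : ∀ ξ ∈ X, (δ ξ : ℂ) * (δ ξ : ℂ) = 1 := fun χ hχ => by
    rcases hs.sign χ hχ with e | e <;> rw [e] <;> simp
  set D : Cfsg.IrrCharacter (H ⧸ N) → Cfsg.IrrCharacter H → ℤ :=
    fun ξ θ => δ ξ * nq p b θ (inf N ξ) + m * ∑ ξ' ∈ X, δ ξ' * nq p b θ (inf N ξ') with hD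
  have hdvd : ∀ ξ ∈ X, ∀ θ ∈ b, (n : ℤ) ∣ D ξ θ := by
    intro ξ hξ θ _
    obtain ⟨z, hz⟩ := RegLift.int_expand (p := p) hc (IsPGroup.of_card hN) θ
    set c : Cfsg.IrrCharacter (H ⧸ N) → ℤ := fun α => δ α * z α - δ₀ * ∑ η ∈ Y, z η with hcdef
    have hE : ∀ β ∈ X, δ β * nq p b θ (inf N β) = ∑ α ∈ X, c α * g α β := by
      intro β hβ
      have h1 := nq_eq_sum hM hb Finset.univ (fun α => (z α : ℂ)) (inf N) hz (hmem β hβ)
      have hY : ∀ η ∈ Y, (nq p b (inf N β) (inf N η) : ℂ) =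
          ∑ α ∈ X, -((δ₀ : ℂ) * (δ α : ℂ)) * (nq p b (inf N β) (inf N α) : ℂ) := fun η hη =>
        nq_eq_sum hM hb X _ (inf N) (fun x hx => by
          have hx' : ¬ p ∣ orderOf (x : H ⧸ N) := fun hd' =>
            hx (hd'.trans (orderOf_map_dvd (QuotientGroup.mk' N) x))
          have h2 := hs.relation η hη _ hx'
          have h0 : (δ₀ : ℂ) * (δ₀ : ℂ) = 1 := by
            rcases hs.sign₀ with e' | e' <;> rw [e'] <;> simp
          simp only [inf_apply, neg_mul, mul_assoc, Finset.sum_neg_distrib, ← Finset.mul_sum]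
          linear_combination (δ₀ : ℂ) * h2 - (η : H ⧸ N → ℂ) (x : H ⧸ N) * h0) (hmem β hβ)
      have h3 : (nq p b (inf N β) θ : ℂ) =
          ∑ α ∈ X, (z α : ℂ) * (nq p b (inf N β) (inf N α) : ℂ) +
            ∑ η ∈ Y, (z η : ℂ) * (nq p b (inf N β) (inf N η) : ℂ) := by
        rw [h1, ← Finset.sum_union hs.disjoint]
        refine (Finset.sum_subset (Finset.subset_univ _) fun α _ hα => ?_).symm
        have hα' : inf N α ∉ b := fun h => hα (Finset.mem_union.mpr ((hs.mem_iff α).mp h))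
        have h4 := pow_mul_nq hM hb (hmem β hβ) (inf N α)
        rw [contribN_eq_zero hM hb (hmem β hβ) hα'] at h4
        rw [(mul_eq_zero.mp h4).resolve_left (pow_ne_zero _ (mod_cast hp.ne_zero)), Int.cast_zero,
          mul_zero]
      have h5 : ((δ β * nq p b θ (inf N β) : ℤ) : ℂ) = ((∑ α ∈ X, c α * g α β : ℤ) : ℂ) := by
        have hval : ∀ α ∈ X, (δ β : ℂ) * (nq p b (inf N β) (inf N α) : ℂ) =
            (δ α : ℂ) * (g α β : ℂ) := by
          intro α hα
          have h7 := congrArg (fun w : ℤ => (w : ℂ)) (hnq α hα β hβ)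
          rw [nq_comm (inf N α)] at h7
          push_cast at h7
          linear_combination (δ α : ℂ) * h7 -
            (δ β : ℂ) * (nq p b (inf N β) (inf N α) : ℂ) * hsq α hα
        have hY' : ∀ η ∈ Y, (δ β : ℂ) * ((z η : ℂ) * (nq p b (inf N β) (inf N η) : ℂ)) =
            (z η : ℂ) * ∑ α ∈ X, -(δ₀ : ℂ) * (g α β : ℂ) := by
          intro η hη
          rw [hY η hη, mul_left_comm, Finset.mul_sum]
          congr 1
          refine Finset.sum_congr rfl fun α hα => ?_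
          linear_combination (-(δ₀ : ℂ) * (δ α : ℂ)) * hval α hα -
            (δ₀ : ℂ) * (g α β : ℂ) * hsq α hα
        push_cast [hcdef]
        rw [nq_comm θ, h3, mul_add, Finset.mul_sum, Finset.mul_sum, Finset.sum_congr rfl hY',
          ← Finset.sum_mul, Finset.mul_sum, ← Finset.sum_add_distrib]
        refine Finset.sum_congr rfl fun α hα => ?_
        linear_combination (z α : ℂ) * hval α hα
      exact_mod_cast h5
    refine ⟨c ξ, ?_⟩
    have hrow : ∀ α ∈ X, ∑ β ∈ X, g α β = 1 := fun α hα => by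
      simp only [hg, Finset.sum_sub_distrib, Finset.sum_ite_eq, if_pos hα, Finset.sum_const,
        hs.cardX, nsmul_eq_mul]
      linear_combination -hem
    have hsum : ∑ β ∈ X, δ β * nq p b θ (inf N β) = ∑ α ∈ X, c α := by
      rw [Finset.sum_congr rfl hE, Finset.sum_comm]
      exact Finset.sum_congr rfl fun α hα => by rw [← Finset.mul_sum, hrow α hα, mul_one]
    simp only [hD]
    rw [hsum, hE ξ hξ]
    simp only [hg, mul_sub, mul_ite, mul_zero, Finset.sum_sub_distrib, Finset.sum_ite_eq',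
      if_pos hξ, ← Finset.sum_mul]
    ring
  have hq : ∀ ξ ∈ X, ∀ θ ∈ b, (n : ℤ) * star b p n X δ Y.card ξ θ = D ξ θ := fun ξ hξ θ hθ =>
    Int.mul_ediv_cancel' (hdvd ξ hξ θ hθ)
  refine ⟨hq, fun ξ hξ θ hθ => ?_, fun ξ ξ' _ hξ hξ' => ?_⟩
  · refine mul_left_cancel₀ hp0 ?_
    rw [Finset.mul_sum, Finset.sum_congr rfl fun ζ hζ => show (n : ℤ) * (nq p b θ ζ *
      star b p n X δ Y.card ξ ζ) = nq p b θ ζ * D ξ ζ by
        rw [← hq ξ hξ ζ (mem_bset.mp hζ)]; ring, mul_left_comm,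
      hq ξ hξ θ (mem_bset.mp hθ)]
    simp only [hD, mul_add, Finset.sum_add_distrib, Finset.mul_sum]
    rw [Finset.sum_comm (s := bset b)]
    congr 1
    · calc ∑ ζ ∈ bset b, nq p b θ ζ * (δ ξ * nq p b ζ (inf N ξ))
          = δ ξ * ∑ ζ ∈ bset b, nq p b θ ζ * nq p b ζ (inf N ξ) := by
            rw [Finset.mul_sum]; exact Finset.sum_congr rfl fun _ _ => by ring
        _ = _ := by rw [nq_sq hM hb (mem_bset.mp hθ) (hmem ξ hξ)]; ring
    · refine Finset.sum_congr rfl fun ξ'' hξ'' => ?_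
      calc ∑ ζ ∈ bset b, nq p b θ ζ * (m * (δ ξ'' * nq p b ζ (inf N ξ'')))
          = m * δ ξ'' * ∑ ζ ∈ bset b, nq p b θ ζ * nq p b ζ (inf N ξ'') := by
            rw [Finset.mul_sum]; exact Finset.sum_congr rfl fun _ _ => by ring
        _ = _ := by rw [nq_sq hM hb (mem_bset.mp hθ) (hmem ξ'' hξ'')]; ring
  · have hpp : (n : ℤ) * (n : ℤ) ≠ 0 := mul_ne_zero hp0 hp0
    refine mul_left_cancel₀ hpp ?_
    set E : Cfsg.IrrCharacter (H ⧸ N) → Cfsg.IrrCharacter H → ℤ :=
      fun ξ θ => δ ξ * nq p b θ (inf N ξ) with hE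
    have hEE : ∀ α ∈ X, ∀ β ∈ X, ∑ θ ∈ bset b, E α θ * E β θ = (p : ℤ) ^ (a + f) * g α β := by
      intro α hα β hβ
      calc ∑ θ ∈ bset b, E α θ * E β θ
          = δ α * δ β * ∑ θ ∈ bset b, nq p b (inf N α) θ * nq p b θ (inf N β) := by
            rw [Finset.mul_sum]
            refine Finset.sum_congr rfl fun θ _ => ?_
            simp only [hE]
            rw [nq_comm θ (inf N α)]
            ring
        _ = _ := by
            rw [nq_sq hM hb (hmem α hα) (hmem β hβ), hd, ← hnq α hα β hβ]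
            ring
    have hrow : ∀ α ∈ X, ∑ β ∈ X, g α β = 1 := fun α hα => by
      simp only [hg, Finset.sum_sub_distrib, Finset.sum_ite_eq, if_pos hα, Finset.sum_const,
        hs.cardX, nsmul_eq_mul]
      linear_combination -hem
    have hrow' : ∀ α ∈ X, ∑ β ∈ X, g β α = 1 := fun α hα => by
      rw [← hrow α hα]
      refine Finset.sum_congr rfl fun β _ => ?_
      simp only [hg, eq_comm (a := α)]
    calc (n : ℤ) * n * ∑ θ ∈ bset b, star b p n X δ Y.card ξ θ * star b p n X δ Y.card ξ' θ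
        = ∑ θ ∈ bset b, (E ξ θ + m * ∑ α ∈ X, E α θ) * (E ξ' θ + m * ∑ β ∈ X, E β θ) := by
          rw [Finset.mul_sum]
          refine Finset.sum_congr rfl fun θ hθ => ?_
          rw [show E ξ θ + m * ∑ α ∈ X, E α θ = D ξ θ from rfl,
            show E ξ' θ + m * ∑ α ∈ X, E α θ = D ξ' θ from rfl,
            ← hq ξ hξ θ (mem_bset.mp hθ), ← hq ξ' hξ' θ (mem_bset.mp hθ)]
          ring
      _ = (p : ℤ) ^ (a + f) * g ξ ξ' + m * (∑ β ∈ X, (p : ℤ) ^ (a + f) * g ξ β) +
            m * (∑ α ∈ X, (p : ℤ) ^ (a + f) * g α ξ') +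
            m * m * ∑ α ∈ X, ∑ β ∈ X, (p : ℤ) ^ (a + f) * g α β := by
          rw [← hEE ξ hξ ξ' hξ', Finset.sum_congr rfl fun β hβ => (hEE ξ hξ β hβ).symm,
            Finset.sum_congr rfl (fun α hα => (hEE α hα ξ' hξ').symm),
            Finset.sum_congr rfl fun α hα => Finset.sum_congr rfl fun β hβ => (hEE α hα β hβ).symm]
          have e1 : m * ∑ β ∈ X, ∑ θ ∈ bset b, E ξ θ * E β θ =
              ∑ θ ∈ bset b, E ξ θ * (m * ∑ β ∈ X, E β θ) := by
            simp only [Finset.mul_sum]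
            rw [Finset.sum_comm]
            exact Finset.sum_congr rfl fun _ _ => Finset.sum_congr rfl fun _ _ => by ring
          have e2 : m * ∑ α ∈ X, ∑ θ ∈ bset b, E α θ * E ξ' θ =
              ∑ θ ∈ bset b, (m * ∑ α ∈ X, E α θ) * E ξ' θ := by
            simp only [Finset.mul_sum, Finset.sum_mul]
            rw [Finset.sum_comm]
            exact Finset.sum_congr rfl fun _ _ => Finset.sum_congr rfl fun _ _ => by ring
          have e3 : m * m * ∑ α ∈ X, ∑ β ∈ X, ∑ θ ∈ bset b, E α θ * E β θ =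
              ∑ θ ∈ bset b, (m * ∑ α ∈ X, E α θ) * (m * ∑ β ∈ X, E β θ) := by
            rw [Finset.sum_congr rfl fun θ (_ : θ ∈ bset b) => show
              (m * ∑ α ∈ X, E α θ) * (m * ∑ β ∈ X, E β θ) =
                m * m * ∑ α ∈ X, ∑ β ∈ X, E α θ * E β θ by rw [← Finset.sum_mul_sum]; ring,
              ← Finset.mul_sum, Finset.sum_comm (s := bset b)]
            exact congrArg _ (Finset.sum_congr rfl fun α _ => Finset.sum_comm)
          rw [e1, e2, e3, ← Finset.sum_add_distrib, ← Finset.sum_add_distrib,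
            ← Finset.sum_add_distrib]
          exact Finset.sum_congr rfl fun θ _ => by ring
      _ = _ := by
          simp only [← Finset.mul_sum]
          rw [hrow ξ hξ, hrow' ξ' hξ', Finset.sum_congr rfl hrow, Finset.sum_const, hs.cardX,
            nsmul_eq_mul]
          simp only [hg]
          push_cast
          have hpa : (p : ℤ) ^ (a + f) = ((p : ℤ) ^ a) * (n : ℤ) := by rw [hn, pow_add]; push_cast; rfl
          split_ifs <;> rw [hpa] <;> linear_combination (p : ℤ) ^ a * (n : ℤ) * m * hem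

include hM in
/-- **Major subsections with cyclic quotient block**: `k(B) ≤ p ^ d`. -/
theorem card_le {x : H} (hx : Pelt p x) {B : Set (Cfsg.IrrCharacter G)}
    (hind : Cfsg.IsInducedBlock M H b B) (hd : Cfsg.blockDefect p b = Cfsg.blockDefect p B)
    {a f : ℕ} (hf : 1 ≤ f) (h2 : Cfsg.blockDefect p b = a + f) (hc : N ≤ Subgroup.center H)
    (hN : Nat.card N = p ^ a) {X Y : Finset (Cfsg.IrrCharacter (H ⧸ N))} {e : ℕ}
    {δ : Cfsg.IrrCharacter (H ⧸ N) → ℤ} {δ₀ : ℤ}
    (hs : CyclicStruct p (bar N b) (p ^ f) e X Y δ δ₀) : Nat.card B ≤ p ^ (a + f) := by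
  classical
  have hp : p.Prime := Fact.out
  have hb := hind.1
  set m := Y.card with hm
  obtain ⟨hq, heig, hgram⟩ := star_spec hM hb hc hN hf h2 hs
  rw [← hm] at hq heig hgram
  set n : ℕ := p ^ f with hn
  set w : ℕ := p ^ a with hw
  have hn1 : n ≠ 1 := (Nat.one_lt_pow (by omega) hp.one_lt).ne'
  have hem : e * m + 1 = n := hs.cardY
  have he : 1 ≤ e ∧ 1 ≤ m := by
    rcases Nat.eq_zero_or_pos e with h | h
    · rw [h, zero_mul, zero_add] at hem; exact absurd hem.symm hn1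
    rcases Nat.eq_zero_or_pos m with h' | h'
    · rw [h', mul_zero, zero_add] at hem; exact absurd hem.symm hn1
    exact ⟨h, h'⟩
  let en : Fin e → Cfsg.IrrCharacter (H ⧸ N) :=
    fun i => (X.equivFinOfCardEq hs.cardX).symm i
  have henX : ∀ i, en i ∈ X := fun i => ((X.equivFinOfCardEq hs.cardX).symm i).2
  have hen : ∀ i j, en i = en j ↔ i = j := fun i j =>
    ⟨fun h => (X.equivFinOfCardEq hs.cardX).symm.injective (Subtype.ext h), fun h => h ▸ rfl⟩
  let c : ℕ → Cfsg.IrrCharacter H → ℤ := fun k =>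
    if h : 0 < k ∧ k ≤ e then star b p n X δ m (en ⟨k - 1, by omega⟩) else fun _ => 0
  have hc0 : c 0 = fun _ => 0 := dif_neg fun h => lt_irrefl 0 h.1
  have hce : c (e + 1) = fun _ => 0 := dif_neg fun h => by omega
  have hceig : ∀ k, Eig p b (c k) := fun k => by
    by_cases h : 0 < k ∧ k ≤ e
    · simp only [c, dif_pos h]; exact heig _ (henX _)
    · intro θ _; simp only [c, dif_neg h, mul_zero, Finset.sum_const_zero]
  have hcgram : ∀ k l, ∑ θ ∈ bset b, c k θ * c l θ =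
      if (0 < k ∧ k ≤ e) ∧ (0 < l ∧ l ≤ e) then (w : ℤ) * ((if k = l then 1 else 0) + m) else 0 := by
    intro k l
    by_cases hk : 0 < k ∧ k ≤ e
    · by_cases hl : 0 < l ∧ l ≤ e
      · simp only [c, dif_pos hk, dif_pos hl, if_pos (And.intro hk hl),
          hgram _ _ (henX _) (henX _)]
        congr 2
        refine if_congr ?_ rfl rfl
        rw [hen, Fin.ext_iff]
        show k - 1 = l - 1 ↔ _
        omega
      · rw [if_neg fun h => hl h.2]
        simp only [c, dif_neg hl, mul_zero, Finset.sum_const_zero]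
    · rw [if_neg fun h => hk h.1]
      simp only [c, dif_neg hk, zero_mul, Finset.sum_const_zero]
  let r : ℕ → Cfsg.IrrCharacter H → ℤ := fun k θ => c (k + 1) θ + (-1) * c k θ
  have hreig : ∀ k, Eig p b (r k) := fun k => (hceig _).add_mul (hceig _) (-1)
  have hrsq : ∀ k, ∑ θ ∈ bset b, r k θ * r k θ = ∑ θ ∈ bset b, c (k + 1) θ * c (k + 1) θ -
      2 * ∑ θ ∈ bset b, c (k + 1) θ * c k θ + ∑ θ ∈ bset b, c k θ * c k θ := fun k => by
    rw [Finset.mul_sum, ← Finset.sum_sub_distrib, ← Finset.sum_add_distrib]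
    exact Finset.sum_congr rfl fun θ _ => by simp only [r]; ring
  have htot : ∑ k ∈ Finset.range (e + 1), ∑ θ ∈ bset b, r k θ * r k θ =
      2 * (w : ℤ) * ((e : ℤ) + m) := by
    have key : ∀ k ∈ Finset.range (e + 1), ∑ θ ∈ bset b, r k θ * r k θ =
        2 * (w : ℤ) + (if k = 0 then (w : ℤ) * ((m : ℤ) - 1) else 0) +
          (if k = e then (w : ℤ) * ((m : ℤ) - 1) else 0) := by
      intro k hk
      rw [Finset.mem_range] at hk
      rw [hrsq, hcgram, hcgram, hcgram]
      split_ifs <;> first | (exfalso; omega) | ring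
    rw [Finset.sum_congr rfl key]
    simp only [Finset.sum_add_distrib, Finset.sum_const, Finset.card_range, nsmul_eq_mul,
      Finset.sum_ite_eq', Finset.mem_range, Nat.succ_pos, lt_add_one, if_true]
    push_cast
    ring
  -- two coordinates at each character
  have hne : ∀ χ ∈ B, ∃ k ∈ Finset.range (e + 1), coord b x (r k) χ ≠ 0 := by
    intro χ hχ
    by_contra hcon
    push Not at hcon
    have hcz : ∀ k ≤ e + 1, coord b x (c k) χ = 0 := by
      intro k hk
      induction k with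
      | zero => rw [hc0]; simp [coord]
      | succ k ih =>
        have h1 := hcon k (Finset.mem_range.mpr (by omega))
        rw [coord_add_mul, ih (by omega), mul_zero, add_zero] at h1
        exact h1
    have hy : ∀ ξ ∈ X, (δ ξ : ℂ) * rowq p b x χ (inf N ξ) +
        (m : ℂ) * ∑ ξ' ∈ X, (δ ξ' : ℂ) * rowq p b x χ (inf N ξ') = 0 := by
      intro ξ hξ
      set i := X.equivFinOfCardEq hs.cardX ⟨ξ, hξ⟩
      have hi : en i = ξ := congrArg Subtype.val ((X.equivFinOfCardEq hs.cardX).symm_apply_apply _)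
      have h1 := hcz (i + 1) (by omega)
      simp only [c, dif_pos (show 0 < (i : ℕ) + 1 ∧ (i : ℕ) + 1 ≤ e from ⟨by omega, i.2⟩),
        Nat.add_sub_cancel, Fin.eta, hi] at h1
      have h3 : (n : ℂ) * coord b x (star b p n X δ m ξ) χ = (δ ξ : ℂ) * rowq p b x χ (inf N ξ) +
          (m : ℂ) * ∑ ξ' ∈ X, (δ ξ' : ℂ) * rowq p b x χ (inf N ξ') := by
        simp only [coord, rowq, Finset.mul_sum]
        rw [Finset.sum_comm, ← Finset.sum_add_distrib]
        refine Finset.sum_congr rfl fun θ hθ => ?_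
        have h4 := congrArg (fun z : ℤ => (z : ℂ)) (hq ξ hξ θ (mem_bset.mp hθ))
        push_cast [Finset.mul_sum] at h4
        rw [← mul_assoc, h4, add_mul, Finset.sum_mul]
        congr 1
        · ring
        · exact Finset.sum_congr rfl fun _ _ => by ring
      rw [← h3, h1, mul_zero]
    have hS : ∑ ξ ∈ X, (δ ξ : ℂ) * rowq p b x χ (inf N ξ) = 0 := by
      have h1 := Finset.sum_eq_zero hy
      rw [Finset.sum_add_distrib, Finset.sum_const, hs.cardX, nsmul_eq_mul] at h1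
      have h2' : ((e : ℂ) * (m : ℂ) + 1) * ∑ ξ ∈ X, (δ ξ : ℂ) * rowq p b x χ (inf N ξ) = 0 := by
        linear_combination h1
      refine (mul_eq_zero.mp h2').resolve_left ?_
      have : ((e * m + 1 : ℕ) : ℂ) ≠ 0 := Nat.cast_ne_zero.mpr (by omega)
      exact_mod_cast this
    have hX : ∀ ξ ∈ X, rowq p b x χ (inf N ξ) = 0 := by
      intro ξ hξ
      have h1 := hy ξ hξ
      rw [hS, mul_zero, add_zero] at h1
      refine (mul_eq_zero.mp h1).resolve_left ?_
      rcases hs.sign ξ hξ with e' | e' <;> rw [e'] <;> simp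
    have hbar : ∀ ξ ∈ bar N b, rowq p b x χ (inf N ξ) = 0 := by
      intro η hη
      rcases (hs.mem_iff η).mp hη with h | h
      · exact hX η h
      · rw [rowq_eq_sum hM hb X (fun ξ => -((δ₀ : ℂ) * (δ ξ : ℂ))) (inf N) (fun g hg => ?_) x χ]
        · exact Finset.sum_eq_zero fun ξ hξ => by rw [hX ξ hξ, mul_zero]
        · have hg' : ¬ p ∣ orderOf (g : H ⧸ N) := fun hd' =>
            hg (hd'.trans (orderOf_map_dvd (QuotientGroup.mk' N) g))
          have h1 := hs.relation η h _ hg'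
          have h0 : (δ₀ : ℂ) * (δ₀ : ℂ) = 1 := by
            rcases hs.sign₀ with e' | e' <;> rw [e'] <;> simp
          simp only [inf_apply, neg_mul, mul_assoc, Finset.sum_neg_distrib, ← Finset.mul_sum]
          linear_combination (δ₀ : ℂ) * h1 - (η : H ⧸ N → ℂ) (g : H ⧸ N) * h0
    have hall : ∀ ζ ∈ bset b, rowq p b x χ ζ = 0 := by
      intro ζ hζ
      obtain ⟨a, ha⟩ := regular_expand hM hb hc (IsPGroup.of_card hN) (mem_bset.mp hζ)
      rw [rowq_eq_sum hM hb (bset (bar N b)) a (inf N) ha x χ]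
      exact Finset.sum_eq_zero fun ξ hξ => by rw [hbar ξ (mem_bset.mp hξ), mul_zero]
    apply MajorSection.cX_self_ne_zero hM hx hind hd hχ
    rw [cX]
    exact Finset.sum_eq_zero fun ζ hζ => by rw [hall ζ hζ, zero_mul]
  have htwo : ∀ χ ∈ bset B,
      2 ≤ ((Finset.range (e + 1)).filter fun k => coord b x (r k) χ ≠ 0).card := by
    intro χ hχ
    obtain ⟨k, hk, hk0⟩ := hne χ (mem_bset.mp hχ)
    by_contra hlt
    have hsum : ∑ l ∈ Finset.range (e + 1), coord b x (r l) χ = 0 := by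
      rw [Finset.sum_congr rfl fun l _ => coord_add_mul x (c (l + 1)) (c l) (-1) χ]
      simp only [Int.cast_neg, Int.cast_one, neg_one_mul, ← sub_eq_add_neg]
      rw [Finset.sum_range_sub (fun l => coord b x (c l) χ), hc0, hce, sub_self]
    rw [Finset.sum_eq_single k (fun l hl hlk => ?_) (fun h => absurd hk h)] at hsum
    · exact hk0 hsum
    · by_contra hl0
      apply hlt
      exact Finset.one_lt_card.mpr ⟨k, Finset.mem_filter.mpr ⟨hk, hk0⟩, l,
        Finset.mem_filter.mpr ⟨hl, hl0⟩, Ne.symm hlk⟩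
  have hcount : ∀ k, (((bset B).filter fun χ => coord b x (r k) χ ≠ 0).card : ℤ) ≤
      ∑ θ ∈ bset b, r k θ * r k θ := by
    intro k
    have := count hM hx hind (hreig k) (fun _ => True) 0 (fun χ _ _ => by
      rw [pow_zero, div_one, ← Complex.mul_conj]
      exact mem_localRing_of_isIntegral ((BC78.RankTwo.isIntegral_coord hx.commute _ _).mul
        (BC78.RankTwo.isIntegral_conj_coord hx.commute _ _)))
    simpa using this
  have hdouble : 2 * (bset B).card ≤
      ∑ k ∈ Finset.range (e + 1), ((bset B).filter fun χ => coord b x (r k) χ ≠ 0).card := by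
    simp only [Finset.card_filter]
    rw [Finset.sum_comm, mul_comm, ← smul_eq_mul]
    refine Finset.card_nsmul_le_sum _ _ _ fun χ hχ => ?_
    rw [← Finset.card_filter]
    exact htwo χ hχ
  rw [card_bset] at hdouble
  have hfin : 2 * (Nat.card B : ℤ) ≤ 2 * (w : ℤ) * ((e : ℤ) + m) := by
    calc 2 * (Nat.card B : ℤ) ≤ ((∑ k ∈ Finset.range (e + 1),
          ((bset B).filter fun χ => coord b x (r k) χ ≠ 0).card : ℕ) : ℤ) := by exact_mod_cast hdouble
      _ ≤ _ := by
          rw [← htot, Nat.cast_sum]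
          exact Finset.sum_le_sum fun k _ => hcount k
  have hle : e + m ≤ n := by nlinarith
  have : Nat.card B ≤ w * (e + m) := by
    have h9 : (Nat.card B : ℤ) ≤ (w : ℤ) * ((e : ℤ) + m) := by linarith
    exact_mod_cast h9
  calc Nat.card B ≤ w * (e + m) := this
    _ ≤ w * n := Nat.mul_le_mul_left w hle
    _ = p ^ (a + f) := (pow_add p a f).symm

end Cfsg.Agent.Lib.BlockSize.Two
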